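import Groth.Agent.Algz.K574.PiSurj

/-!
# Points of a qcqs scheme with values in a product of rings: bijectivity
-/

set_option autoImplicit false
universe u
open CategoryTheory CategoryTheory.Limits AlgebraicGeometry Opposite TopologicalSpace Topology

namespace K574.PiPts

open K574.PiInj K574.PiLoc K574.PiSurj

variable {ι : Type u} (A : ι → CommRingCat.{u})

/-- the local construction on an affine open -/
theorem exists_local {X : Scheme.{u}} (f : ∀ i, Spec (A i) ⟶ X) {U : X.Opens} (hU : IsAffineOpen U)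
    (x : ∀ i, A i) (hx : ∀ i, PrimeSpectrum.basicOpen (x i) ≤ f i ⁻¹ᵁ U) :
    ∃ g : Spec (.of (L (T A) x)) ⟶ X, ∀ i, ev' A x i ≫ g = al A x i ≫ f i := by
  have h1 : ∀ i, Set.range (al A x i ≫ f i) ⊆ Set.range hU.fromSpec := by
    intro i
    rw [hU.range_fromSpec]
    rintro _ ⟨z, rfl⟩
    rw [Scheme.Hom.comp_apply]
    refine hx i ?_
    have h2 : (al A x i z : PrimeSpectrum (A i)) ∈
        Set.range (PrimeSpectrum.comap (algebraMap (A i) (Localization.Away (x i)))) := ⟨z, rfl⟩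
    rw [PrimeSpectrum.localization_away_comap_range (Localization.Away (x i)) (x i)] at h2
    exact h2
  choose φ hφ using fun i =>
    Spec.map_surjective (IsOpenImmersion.lift hU.fromSpec (al A x i ≫ f i) (h1 i))
  let Φ : Γ(X, U) →+* L (T A) x := RingHom.pi fun i => (φ i).hom
  refine ⟨Spec.map (CommRingCat.ofHom Φ) ≫ hU.fromSpec, fun i => ?_⟩
  have h3 : ev' A x i ≫ Spec.map (CommRingCat.ofHom Φ) = Spec.map (φ i) := by
    rw [ev', ev, ← Spec.map_comp]
    rfl
  rw [← Category.assoc, h3, hφ, IsOpenImmersion.lift_fac]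

theorem exists_eq_sigmaι {n : ℕ} (Y : Fin n → Scheme.{u}) (z : (∐ Y : Scheme.{u})) :
    ∃ j y, Sigma.ι Y j y = z :=
  (sigmaOpenCover Y).exists_eq z

theorem exists_lift (X : Scheme.{u}) [CompactSpace X] [QuasiSeparatedSpace X]
    (f : ∀ i, Spec (A i) ⟶ X) :
    ∃ F : Spec (CommRingCat.of (∀ i, A i)) ⟶ X, ∀ i, ev A i ≫ F = f i := by
  obtain ⟨n, U, _, _, _, hU, hUc, -⟩ := Part.exists_adapted_cover (𝟙 X)
  choose x' hx1 hx2 using fun i => Part.exists_partition (f i) U hUc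
  let x : Fin n → ∀ i, A i := fun j i => x' i j
  choose g hg using fun j => exists_local A f (hU j) (x j) (fun i => hx2 i j)
  let Y : Fin n → Scheme.{u} := fun j => Spec (.of (L (T A) (x j)))
  let π : (∐ Y) ⟶ Spec (CommRingCat.of (∀ i, A i)) := Limits.Sigma.desc fun j => pr A (x j)
  have hflat : Flat π := by
    have hP : IsZariskiLocalAtSource @Flat.{u} :=
      HasRingHomProperty.instIsZariskiLocalAtSource (P := @Flat.{u})
    refine IsZariskiLocalAtSource.sigmaDesc (P := @Flat.{u}) fun j => ?_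
    exact Flat.SpecMap_iff.mpr (flat_loc (T A) (x j))
  have hsurj : Surjective π := by
    refine Surjective.sigmaDesc_of_union_range_eq_univ ?_
    rw [Set.eq_univ_iff_forall]
    intro p
    rw [Set.mem_iUnion]
    refine exists_mem_range (T A) x (fun i => ?_) p
    rw [Ideal.eq_top_iff_one]
    have := hx1 i
    rw [← this]
    exact Submodule.sum_mem _ fun j _ => Ideal.subset_span ⟨j, rfl⟩
  have hqc : QuasiCompact π := by
    rw [quasiCompact_iff_compactSpace]
    infer_instance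
  let e : (∐ Y) ⟶ X := Limits.Sigma.desc g
  have he : ∀ {Z : Scheme.{u}} (g₁ g₂ : Z ⟶ ∐ Y), g₁ ≫ π = g₂ ≫ π → g₁ ≫ e = g₂ ≫ e := by
    intro Z g₁ g₂ h
    refine Scheme.hom_ext_of_forall _ _ fun z => ?_
    obtain ⟨j, y, hy⟩ := exists_eq_sigmaι Y (g₁ z)
    obtain ⟨k, y', hy'⟩ := exists_eq_sigmaι Y (g₂ z)
    let O : Z.Opens := g₁ ⁻¹ᵁ (Sigma.ι Y j).opensRange ⊓ g₂ ⁻¹ᵁ (Sigma.ι Y k).opensRange
    refine ⟨O, ⟨⟨y, hy⟩, ⟨y', hy'⟩⟩, ?_⟩
    have h1 : Set.range (O.ι ≫ g₁) ⊆ Set.range (Sigma.ι Y j) := by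
      rintro _ ⟨w, rfl⟩
      rw [Scheme.Hom.comp_apply]
      exact w.2.1
    have h2 : Set.range (O.ι ≫ g₂) ⊆ Set.range (Sigma.ι Y k) := by
      rintro _ ⟨w, rfl⟩
      rw [Scheme.Hom.comp_apply]
      exact w.2.2
    let a := IsOpenImmersion.lift (Sigma.ι Y j) (O.ι ≫ g₁) h1
    let b := IsOpenImmersion.lift (Sigma.ι Y k) (O.ι ≫ g₂) h2
    have ha : a ≫ Sigma.ι Y j = O.ι ≫ g₁ := IsOpenImmersion.lift_fac _ _ _
    have hb : b ≫ Sigma.ι Y k = O.ι ≫ g₂ := IsOpenImmersion.lift_fac _ _ _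
    have hab : a ≫ pr A (x j) = b ≫ pr A (x k) := by
      have h3 : a ≫ Sigma.ι Y j ≫ π = b ≫ Sigma.ι Y k ≫ π := by
        rw [← Category.assoc, ha, ← Category.assoc, hb, Category.assoc, Category.assoc, h]
      rwa [Sigma.ι_desc, Sigma.ι_desc] at h3
    have h4 := compat A f (x j) (x k) (g j) (hg j) (g k) (hg k) a b hab
    rw [← Category.assoc, ← Category.assoc, ← ha, ← hb, Category.assoc, Category.assoc,
      Sigma.ι_desc, Sigma.ι_desc, h4]
  refine ⟨EffectiveEpi.desc π e he, fun i => ?_⟩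
  have hfac : π ≫ EffectiveEpi.desc π e he = e := EffectiveEpi.fac π e he
  have hfac' : ∀ j, pr A (x j) ≫ EffectiveEpi.desc π e he = g j := by
    intro j
    have h5 : Sigma.ι Y j ≫ π ≫ EffectiveEpi.desc π e he = Sigma.ι Y j ≫ e := by rw [hfac]
    rwa [← Category.assoc, Sigma.ι_desc, Sigma.ι_desc] at h5
  refine Scheme.hom_ext_of_forall _ _ fun p => ?_
  have hp : p ∈ (⨆ j, (PrimeSpectrum.basicOpen (x' i j) : (Spec (A i)).Opens)) := by
    rw [Part.iSup_basicOpen_eq_top (x' i) (hx1 i)]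
    trivial
  obtain ⟨j, hj⟩ := Opens.mem_iSup.mp hp
  let D : (Spec (A i)).Opens := PrimeSpectrum.basicOpen (x' i j)
  refine ⟨D, hj, ?_⟩
  have hoi : IsOpenImmersion (al A (x j) i) := by
    rw [al]
    infer_instance
  have h6 : Set.range D.ι ⊆ Set.range (al A (x j) i) := by
    rw [Scheme.Opens.range_ι]
    have h7 := PrimeSpectrum.localization_away_comap_range (Localization.Away (x j i)) (x j i)
    exact h7.ge
  rw [← IsOpenImmersion.lift_fac (al A (x j) i) _ h6, Category.assoc, Category.assoc]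
  congr 1
  rw [← Category.assoc, ← ev'_pr, Category.assoc, hfac', hg]

theorem bijective (X : Scheme.{u}) [CompactSpace X] [QuasiSeparatedSpace X] :
    Function.Bijective (fun F : Spec (CommRingCat.of (∀ i, A i)) ⟶ X => fun i => ev A i ≫ F) := by
  refine ⟨fun f g h => PiInj.hom_ext A X f g fun i => congrFun h i, fun f => ?_⟩
  obtain ⟨F, hF⟩ := exists_lift A X f
  exact ⟨F, funext hF⟩

end K574.PiPts
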