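import Groth.Prelude.Def_AlgSp
import Groth.Agent.Algz.K574.PiPts
import Mathlib.AlgebraicGeometry.Morphisms.Separated

/-!
# Equalisers of two morphisms to a quasi-separated algebraic space
-/

set_option autoImplicit false
universe u

open CategoryTheory CategoryTheory.Limits AlgebraicGeometry Opposite

namespace K574.AsEq

open AlgSp

variable {S : Scheme.{u}}

/-- The equaliser of two morphisms from a scheme to a sheaf with representable diagonal. -/
theorem exists_equalizer {P : MorphismProperty Scheme.{u}} {F : Sp S}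
    (hF : RepWith P (Limits.diag F)) {T : Over S}
    (g₁ g₂ : (yon S).obj T ⟶ F) :
    ∃ (E : Over S) (j : E ⟶ T), Mono j ∧ P j.left ∧
      (yon S).map j ≫ g₁ = (yon S).map j ≫ g₂ ∧
      ∀ (W : Over S) (w : W ⟶ T), (yon S).map w ≫ g₁ = (yon S).map w ≫ g₂ →
        ∃ w' : W ⟶ E, w' ≫ j = w := by
  let hr := hF.rep
  let g := Limits.prod.lift g₁ g₂
  have hpb := hr.isPullback g
  have hw : (yon S).map (hr.snd g) ≫ g₁ = (yon S).map (hr.snd g) ≫ g₂ := by
    have h1 := hpb.w
    have h2 := congrArg (· ≫ Limits.prod.fst) h1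
    have h3 := congrArg (· ≫ Limits.prod.snd) h1
    simp only [Category.assoc, Limits.prod.lift_fst, Limits.prod.lift_snd, Category.comp_id, g,
      Limits.diag] at h2 h3
    rw [← h2, ← h3]
  refine ⟨hr.pullback g, hr.snd g, ?_, hF.property_snd g, hw, ?_⟩
  · have h1 : Mono ((yon S).map (hr.snd g)) := by
      have : Mono (Limits.diag F) := inferInstance
      exact (MorphismProperty.monomorphisms _).of_isPullback hpb this
    exact (yon S).mono_of_mono_map h1
  · intro W w h
    have h1 : ((yon S).map w ≫ g₁) ≫ Limits.diag F = (yon S).map w ≫ g := by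
      apply Limits.prod.hom_ext
      · simp only [Category.assoc, g, Limits.prod.lift_fst, Limits.diag, Category.comp_id]
      · simp only [Category.assoc, g, Limits.prod.lift_snd, Limits.diag, Category.comp_id]
        exact h
    exact ⟨hr.lift _ w h1, hr.lift_snd _ w h1⟩

instance mono_left {E T : Over S} (j : E ⟶ T) [Mono j] : Mono j.left :=
  inferInstanceAs (Mono ((Over.forget S).map j))

open K574.PiInj in
theorem injective {F : Sp S} [IsAffine S] (hqs : IsQuasiSeparatedSp F)
    {ι : Type u} (A : ι → CommRingCat.{u}) (h : Spec (CommRingCat.of (∀ i, A i)) ⟶ S)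
    (g₁ g₂ : (yon S).obj (Over.mk h) ⟶ F)
    (hg : ∀ i, (yon S).map (Over.homMk (ev A i) rfl : Over.mk (ev A i ≫ h) ⟶ Over.mk h) ≫ g₁ =
      (yon S).map (Over.homMk (ev A i) rfl : Over.mk (ev A i ≫ h) ⟶ Over.mk h) ≫ g₂) :
    g₁ = g₂ := by
  obtain ⟨E, j, hj, hP, h1, h2⟩ := exists_equalizer hqs g₁ g₂
  choose e he using fun i => h2 _ _ (hg i)
  have hP' : QuasiCompact (Y := Spec (CommRingCat.of (∀ i, A i))) j.left := hP
  have hjm : Mono (Y := Spec (CommRingCat.of (∀ i, A i))) j.left := mono_left j
  have hc : CompactSpace E.left := by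
    rw [quasiCompact_iff_compactSpace (Y := Spec (CommRingCat.of (∀ i, A i)))] at hP'
    exact hP'
  have hq : QuasiSeparatedSpace E.left :=
    quasiSeparatedSpace_of_quasiSeparated (Y := Spec (CommRingCat.of (∀ i, A i))) j.left
  obtain ⟨q, hq'⟩ := PiPts.exists_lift A E.left (fun i => (e i).left)
  have h3 : q ≫ j.left = 𝟙 (Spec (CommRingCat.of (∀ i, A i))) := by
    refine PiInj.hom_ext A (Spec (CommRingCat.of (∀ i, A i))) _ _ fun i => ?_
    have h4 : (e i).left ≫ j.left = ev A i := by
      rw [← Over.comp_left, he i]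
      rfl
    rw [Category.comp_id, ← Category.assoc, hq' i, h4]
  let q' : Over.mk h ⟶ E := Over.homMk q (by
    rw [← Over.w j, ← Category.assoc, h3]
    exact Category.id_comp _)
  have h5 : q' ≫ j = 𝟙 _ := Over.OverMorphism.ext h3
  have h6 : (yon S).map q' ≫ (yon S).map j = 𝟙 _ := by
    rw [← Functor.map_comp, h5]
    exact (yon S).map_id _
  rw [← Category.id_comp g₁, ← Category.id_comp g₂, ← h6, Category.assoc, Category.assoc, h1]

end K574.AsEq
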