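import Groth.Agent.Algz.K574.HomBd
import Mathlib.AlgebraicGeometry.Morphisms.Etale
import Mathlib.AlgebraicGeometry.Sites.EtalePoint
import Mathlib.RingTheory.Unramified.LocalStructure
import Mathlib.AlgebraicGeometry.Morphisms.Descent

/-!
# Uniform bound for the number of geometric points in fibres of a quasi-compact étale morphism
-/

set_option autoImplicit false
universe u

open CategoryTheory CategoryTheory.Limits AlgebraicGeometry Opposite TopologicalSpace

namespace K574.EtBd

theorem exists_bound_affine {C M : CommRingCat.{u}} (φ : C ⟶ M) [Etale (Spec.map φ)] :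
    ∃ n : ℕ, ∀ (K : Type u) [Field K] (s : Spec (.of K) ⟶ Spec C),
      Finite {l : Spec (.of K) ⟶ Spec M // l ≫ Spec.map φ = s} ∧
        Nat.card {l : Spec (.of K) ⟶ Spec M // l ≫ Spec.map φ = s} ≤ n := by
  have h1 : φ.hom.Etale := by
    have h2 : Etale (Spec.map φ) := inferInstance
    exact (HasRingHomProperty.Spec_iff (P := @Etale)).1 h2
  algebraize [φ.hom]
  obtain ⟨n, hn⟩ := HomBd.exists_bound C M
  refine ⟨n, fun K _ s => ?_⟩
  let ψ : C →+* K := (Spec.preimage s).hom
  let : Algebra C K := ψ.toAlgebra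
  let e : {l : Spec (.of K) ⟶ Spec M // l ≫ Spec.map φ = s} ≃ (M →ₐ[C] K) :=
    { toFun := fun l =>
        { (Spec.preimage l.1).hom with
          commutes' := fun c => by
            have h3 : φ ≫ Spec.preimage l.1 = Spec.preimage s := by
              apply Spec.map_injective
              rw [Spec.map_comp, Spec.map_preimage, Spec.map_preimage, l.2]
            exact congrArg (fun f => f.hom c) h3 }
      invFun := fun f => ⟨Spec.map (CommRingCat.ofHom f.toRingHom), by
        have h3 : φ ≫ CommRingCat.ofHom f.toRingHom = Spec.preimage s := by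
          ext c
          exact f.commutes c
        rw [← Spec.map_comp, h3, Spec.map_preimage]⟩
      left_inv := fun l => Subtype.ext (by
        change Spec.map (Spec.preimage l.1) = l.1
        rw [Spec.map_preimage])
      right_inv := fun f => by
        ext x
        change (Spec.preimage (Spec.map (CommRingCat.ofHom f.toRingHom))).hom x = f x
        rw [Spec.preimage_map]
        rfl }
  have := (hn K).1
  exact ⟨Finite.of_equiv _ e.symm, by rw [Nat.card_congr e]; exact (hn K).2⟩

theorem exists_bound {E U : Scheme.{u}} [CompactSpace E] [IsAffine U] (f : E ⟶ U) [Etale f] :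
    ∃ n : ℕ, ∀ (K : Type u) [Field K] [IsSepClosed K] (s : Spec (.of K) ⟶ U),
      Finite {l : Spec (.of K) ⟶ E // l ≫ f = s} ∧
        Nat.card {l : Spec (.of K) ⟶ E // l ≫ f = s} ≤ n := by
  have : IsZariskiLocalAtSource @Etale.{u} :=
    HasRingHomProperty.instIsZariskiLocalAtSource (Q := RingHom.Etale)
  have : MorphismProperty.ContainsIdentities @Etale.{u} := ⟨fun X => inferInstance⟩
  obtain ⟨Y, q, hq1, hq2, hq3⟩ := Scheme.exists_hom_isAffine_of_isZariskiLocalAtSource @Etale E
  have hq2' : Etale q := hq2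
  have hq1' : Surjective q := hq1
  let g : Spec Γ(Y, ⊤) ⟶ Spec Γ(U, ⊤) := Y.isoSpec.inv ≫ q ≫ f ≫ U.isoSpec.hom
  have hg : Etale g := inferInstance
  obtain ⟨φ, hφ⟩ := Spec.map_surjective g
  have hφ' : Etale (Spec.map φ) := by rwa [hφ]
  obtain ⟨n, hn⟩ := exists_bound_affine φ
  refine ⟨n, fun K _ _ s => ?_⟩
  obtain ⟨hfin, hcard⟩ := hn K (s ≫ U.isoSpec.hom)
  let Φ : {l : Spec (.of K) ⟶ Spec Γ(Y, ⊤) // l ≫ Spec.map φ = s ≫ U.isoSpec.hom} →
      {l : Spec (.of K) ⟶ E // l ≫ f = s} := fun l => ⟨l.1 ≫ Y.isoSpec.inv ≫ q, by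
        rw [← cancel_mono U.isoSpec.hom]
        refine Eq.trans ?_ l.2
        obtain ⟨l, hl⟩ := l
        dsimp only
        rw [hφ]
        simp [g]⟩
  have hΦ : Function.Surjective Φ := by
    rintro ⟨l, hl⟩
    obtain ⟨y, hy⟩ := q.surjective (l default)
    obtain ⟨m, hm, -⟩ := Scheme.exists_fac_of_etale_of_isSepClosed q l y hy
    refine ⟨⟨m ≫ Y.isoSpec.hom, ?_⟩, Subtype.ext ?_⟩
    · rw [hφ]
      simp only [g, Category.assoc, Iso.hom_inv_id_assoc]
      rw [← Category.assoc, hm, ← Category.assoc, hl]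
    · simp [Φ, hm]
  exact ⟨Finite.of_surjective Φ hΦ, (Nat.card_le_card_of_surjective Φ hΦ).trans hcard⟩

end K574.EtBd
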