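import Mathlib.RingTheory.Flat.EquationalCriterion
import Mathlib.RingTheory.LocalRing.ResidueField.Basic
import Mathlib.RingTheory.Noetherian.Basic
import Mathlib.LinearAlgebra.FiniteDimensional.Defs
import Mathlib.LinearAlgebra.FreeModule.StrongRankCondition
import Mathlib.Algebra.Module.Torsion.Basic

/-!
# Flat modules over a Noetherian local ring: independence modulo the maximal ideal
-/

set_option autoImplicit false
universe u v

open IsLocalRing

namespace K574.FlatInd

theorem exists_sum_of_mem_smul {R : Type u} [CommRing R] {L : Type v} [AddCommGroup L] [Module R L]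
    (I : Ideal R) {z : L} (hz : z ∈ I • (⊤ : Submodule R L)) :
    ∃ (m : ℕ) (v : Fin m → R) (y : Fin m → L), (∀ j, v j ∈ I) ∧ ∑ j, v j • y j = z := by
  refine Submodule.smul_induction_on hz (fun a ha n _ => ⟨1, fun _ => a, fun _ => n, fun _ => ha,
    by simp⟩) ?_
  rintro x x' ⟨m, v, y, hv, rfl⟩ ⟨m', v', y', hv', rfl⟩
  refine ⟨m + m', Fin.append v v', Fin.append y y', fun j => ?_, ?_⟩
  · refine Fin.addCases (fun i => ?_) (fun i => ?_) j
    · rw [Fin.append_left]; exact hv i
    · rw [Fin.append_right]; exact hv' i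
  · rw [Fin.sum_univ_add]
    simp only [Fin.append_left, Fin.append_right]

variable {R : Type u} [CommRing R] [IsLocalRing R]

theorem mem_of_sum {L : Type v} [AddCommGroup L] [Module R L] [Module.Flat R L] {k r : ℕ}
    (w : Fin r → R)
    (hind : ∀ c : Fin r → R, ∑ i, w i * c i ∈ maximalIdeal R ^ (k + 1) → ∀ i, c i ∈ maximalIdeal R)
    (x : Fin r → L)
    (h : ∑ i, w i • x i ∈ maximalIdeal R ^ (k + 1) • (⊤ : Submodule R L)) (i : Fin r) :
    x i ∈ maximalIdeal R • (⊤ : Submodule R L) := by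
  obtain ⟨m, v, y, hv, hvy⟩ := exists_sum_of_mem_smul _ h
  have h0 : ∑ t : Fin r ⊕ Fin m, (Sum.elim w (fun j => - v j) t) • (Sum.elim x y t) = 0 := by
    rw [Fintype.sum_sum_type]
    simp only [Sum.elim_inl, Sum.elim_inr, neg_smul, Finset.sum_neg_distrib]
    rw [hvy, add_neg_cancel]
  obtain ⟨κ, a, z, hz, ha⟩ := Module.Flat.isTrivialRelation_of_sum_smul_eq_zero h0
  have h1 := hz (Sum.inl i)
  rw [Sum.elim_inl] at h1
  rw [h1]
  refine Submodule.sum_mem _ fun l _ => Submodule.smul_mem_smul ?_ trivial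
  refine hind (fun i => a (Sum.inl i) l) ?_ i
  have h2 := ha l
  rw [Fintype.sum_sum_type] at h2
  simp only [Sum.elim_inl, Sum.elim_inr, neg_mul, Finset.sum_neg_distrib] at h2
  rw [add_neg_eq_zero.1 h2]
  exact Submodule.sum_mem _ fun j _ => Ideal.mul_mem_right _ _ (hv j)

/-- Elements of `𝔪^k` whose classes form a basis of `𝔪^k / 𝔪^(k+1)`. -/
theorem exists_basis [IsNoetherianRing R] (k : ℕ) : ∃ (r : ℕ) (w : Fin r → R),
    (∀ i, w i ∈ maximalIdeal R ^ k) ∧
    (∀ x ∈ maximalIdeal R ^ k, ∃ c : Fin r → R, x - ∑ i, w i * c i ∈ maximalIdeal R ^ (k + 1)) ∧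
    (∀ c : Fin r → R, ∑ i, w i * c i ∈ maximalIdeal R ^ (k + 1) → ∀ i, c i ∈ maximalIdeal R) := by
  let M := ↥(maximalIdeal R ^ k)
  let N : Submodule R M := maximalIdeal R • (⊤ : Submodule R M)
  let _ : Field (R ⧸ maximalIdeal R) := Ideal.Quotient.field _
  let _ : Module (R ⧸ maximalIdeal R) (M ⧸ N) :=
    inferInstanceAs (Module (R ⧸ maximalIdeal R) (M ⧸ maximalIdeal R • (⊤ : Submodule R M)))
  have _ : IsScalarTower R (R ⧸ maximalIdeal R) (M ⧸ N) :=
    inferInstanceAs (IsScalarTower R (R ⧸ maximalIdeal R) (M ⧸ maximalIdeal R • (⊤ : Submodule R M)))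
  have hfin : Module.Finite (R ⧸ maximalIdeal R) (M ⧸ N) := Module.Finite.of_restrictScalars_finite R _ _
  let b := Module.finBasis (R ⧸ maximalIdeal R) (M ⧸ N)
  choose m hm using fun i => Submodule.Quotient.mk_surjective N (b i)
  have hN : ∀ x : M, x ∈ N ↔ (x : R) ∈ maximalIdeal R ^ (k + 1) := by
    intro x
    have h1 : Submodule.map (Submodule.subtype (maximalIdeal R ^ k)) N = maximalIdeal R ^ (k + 1) := by
      rw [Submodule.map_smul'', Submodule.map_top, Submodule.range_subtype, smul_eq_mul, pow_succ']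
    rw [← h1]
    constructor
    · intro hx
      exact ⟨x, hx, rfl⟩
    · rintro ⟨y, hy, hyx⟩
      rwa [← (Subtype.ext hyx : y = x)]
  have hmk : ∀ (c : Fin _ → R), (Submodule.Quotient.mk (∑ i, c i • m i) : M ⧸ N) =
      ∑ i, (Ideal.Quotient.mk (maximalIdeal R) (c i)) • b i := by
    intro c
    rw [← Submodule.mkQ_apply, map_sum]
    refine Finset.sum_congr rfl fun i _ => ?_
    rw [map_smul, Submodule.mkQ_apply, hm]
    rfl
  have hco : ∀ c : Fin _ → R, ((∑ i, c i • m i : M) : R) = ∑ i, (m i : R) * c i := by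
    intro c
    rw [Submodule.coe_sum]
    refine Finset.sum_congr rfl fun i _ => ?_
    rw [Submodule.coe_smul, smul_eq_mul, mul_comm]
  refine ⟨_, fun i => (m i : R), fun i => (m i).2, fun x hx => ?_, fun c hc i => ?_⟩
  · choose c hc using fun i => Ideal.Quotient.mk_surjective
      (b.repr (Submodule.Quotient.mk (⟨x, hx⟩ : M) : M ⧸ N) i)
    refine ⟨c, ?_⟩
    have h1 : (⟨x, hx⟩ - ∑ i, c i • m i : M) ∈ N := by
      rw [← Submodule.Quotient.mk_eq_zero, Submodule.Quotient.mk_sub, hmk, sub_eq_zero]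
      simp only [hc]
      exact (b.sum_repr _).symm
    have h2 := (hN _).1 h1
    rwa [Submodule.coe_sub, hco] at h2
  · have h1 : (∑ i, c i • m i : M) ∈ N := by
      rw [hN, hco]
      exact hc
    rw [← Submodule.Quotient.mk_eq_zero, hmk] at h1
    have h2 := Fintype.linearIndependent_iff.1 b.linearIndependent _ h1 i
    exact Ideal.Quotient.eq_zero_iff_mem.1 h2

end K574.FlatInd
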