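import Groth.Agent.Algz.K572.RegSys
import Groth.Agent.Algz.K574.FlatInd

/-!
# Coherent formal modules whose completed stalks are flat over a local ring

* `mono_phi`: independence on the completed stalks implies independence of the operators `G_0 → G_n`;
* `gen`: if the completed stalks are flat over the Noetherian local ring `(R, 𝔪)` and `I = 𝔪 A`, the
  cohomology of the graded pieces is generated by the cohomology of `G_0`.
-/

set_option autoImplicit false
universe u

open CategoryTheory CategoryTheory.Limits AlgebraicGeometry Opposite TopologicalSpace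

namespace K574.FlatTower

open Groth.Agent.FormalB.ModPow Groth.Agent.CycB.StalkExact Groth.Agent.FormalB
  Groth.Agent.Dcoh.StalkMod Groth.Agent.Sga2lef.H100.GrSys Groth.Agent.FormalB.HMod
  Groth.Agent.FormalB.PrincTower K572.Hat K572.RegSys Groth.Agent.Sga2lef.H100.GrFree

attribute [local instance] Abelian.hasFiniteBiproducts

variable {A : Type u} [CommRing A] [IsNoetherianRing A] {X : Scheme.{u}}
  [X.Over (Spec (CommRingCat.of A))] {I : Ideal A} {G : ℕᵒᵖ ⥤ X.Modules}

theorem mono_phi [IsLocallyNoetherian X] (hGI : Formal.IsCohFormal I G) (hG : IsFormal I G)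
    (n : ℕ) {r : ℕ} (ω : Fin r → A) (hω : ∀ i, ω i ∈ I ^ n)
    (H : ∀ y : X, I ≤ ((X ↘ Spec (CommRingCat.of A)).base y).asIdeal →
      ∀ x : Fin r → (sysAt hGI y).Lim, ∑ i, Algz.toStalk A X y (ω i) • x i ∈
        Algz.stalkIdeal I y ^ (n + 1) • (⊤ : Submodule (X.presheaf.stalk y) (sysAt hGI y).Lim) →
      ∀ i, x i ∈ Algz.stalkIdeal I y • (⊤ : Submodule (X.presheaf.stalk y) (sysAt hGI y).Lim)) :
    Mono (phi hG n ω hω) := by
  apply mono_of_injective
  intro y
  rw [injective_iff_map_eq_zero]
  intro z hz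
  suffices h : ∀ i, stalkLin (biproduct.π (fun _ : Fin r => G.obj (op 0)) i) y z = 0 by
    have h1 : (∑ i : Fin r, biproduct.π (fun _ : Fin r => G.obj (op 0)) i ≫
        biproduct.ι (fun _ : Fin r => G.obj (op 0)) i) = 𝟙 _ := biproduct.total
    have h2 := congrArg (fun t => stalkLin t y z) h1
    rw [stalkLin_id, stalkLin_sum, LinearMap.sum_apply, LinearMap.id_apply] at h2
    rw [← h2]
    refine Finset.sum_eq_zero fun i _ => ?_
    rw [stalkLin_comp, LinearMap.comp_apply, h i, map_zero]
  by_cases hy : I ≤ ((X ↘ Spec (CommRingCat.of A)).base y).asIdeal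
  swap
  · intro i
    have h1 : Subsingleton ((G.obj (op 0)).presheaf.stalk y) :=
      subsingleton_stalk (((isCohFormal_iff _ G).1 hGI).2.killed 0) y (by simpa using hy)
    exact Subsingleton.elim _ _
  have h3 : phi hG n ω hω =
      ∑ i : Fin r, biproduct.π (fun _ : Fin r => G.obj (op 0)) i ≫ m hG n (ω i) (hω i) := by
    refine biproduct.hom_ext' _ _ fun j => ?_
    rw [phi, biproduct.ι_desc, Preadditive.comp_sum, Finset.sum_eq_single j]
    · rw [biproduct.ι_π_self_assoc]
    · intro b _ hb
      rw [biproduct.ι_π_ne_assoc _ hb.symm, zero_comp]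
    · intro h; exact absurd (Finset.mem_univ j) h
  rw [h3, stalkLin_sum, LinearMap.sum_apply] at hz
  choose x hx using fun i => prAt_surjective hGI y 0
    (stalkLin (biproduct.π (fun _ : Fin r => G.obj (op 0)) i) y z)
  have h4 : ∀ i, stalkLin (biproduct.π (fun _ : Fin r => G.obj (op 0)) i ≫
        m hG n (ω i) (hω i)) y z = prAt hGI y n (Algz.toStalk A X y (ω i) • x i) := by
    intro i
    rw [stalkLin_comp, LinearMap.comp_apply, ← hx i, ← t0_pr hGI y n, ← LinearMap.comp_apply,
      ← stalkLin_comp, t0_m, stalkLin_smulMod, map_smul]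
  rw [Finset.sum_congr rfl fun i _ => h4 i, ← map_sum] at hz
  have h5 : ∑ i, Algz.toStalk A X y (ω i) • x i ∈
      Algz.stalkIdeal I y ^ (n + 1) • (⊤ : Submodule (X.presheaf.stalk y) (sysAt hGI y).Lim) := by
    rw [← ker_prAt hGI y n, LinearMap.mem_ker]
    exact hz
  intro i
  rw [← hx i]
  have h8 : x i ∈ LinearMap.ker (prAt hGI y 0) := by
    rw [ker_prAt hGI y 0, zero_add, pow_one]
    exact H y hy x h5 i
  exact h8

/-- The ideal generated by `𝔪` in a module over an algebra. -/
theorem mem_map_smul_iff {R S : Type u} [CommRing R] [CommRing S] [Algebra R S] {M : Type u}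
    [AddCommGroup M] [Module R M] [Module S M] [IsScalarTower R S M] {J : Ideal R} {K : Ideal S}
    (h : K = J.map (algebraMap R S)) (x : M) :
    x ∈ K • (⊤ : Submodule S M) ↔ x ∈ J • (⊤ : Submodule R M) := by
  rw [h, ← Submodule.restrictScalars_mem R, Ideal.smul_restrictScalars, Submodule.restrictScalars_top]

theorem gen [IsLocallyNoetherian X] (hGI : Formal.IsCohFormal I G) (hG : IsFormal I G)
    {R : Type u} [CommRing R] [IsNoetherianRing R] [IsLocalRing R] (φ : R →+* A)
    (hI : I = Ideal.map φ (IsLocalRing.maximalIdeal R))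
    (hfl : ∀ y : X, I ≤ ((X ↘ Spec (CommRingCat.of A)).base y).asIdeal →
      letI : Module R (sysAt hGI y).Lim := Module.compHom _ ((Algz.toStalk A X y).comp φ)
      Module.Flat R (sysAt hGI y).Lim) (j : ℕ) : Gen hG j := by
  refine K572.RegSys.gen_of_mono hG (fun n => ?_) j
  obtain ⟨r, w, hw, hsp, hind⟩ := K574.FlatInd.exists_basis (R := R) (n + 1)
  have hpow : ∀ k, I ^ k = Ideal.map φ (IsLocalRing.maximalIdeal R ^ k) := fun k => by
    rw [hI, Ideal.map_pow]
  refine ⟨r, fun i => φ (w i), ⟨fun i => ?_, fun x hx => ?_⟩, mono_phi hGI hG (n + 1) _ _ ?_⟩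
  · rw [hpow]
    exact Ideal.mem_map_of_mem _ (hw i)
  · rw [hpow] at hx
    refine Submodule.span_induction (p := fun x _ => ∃ c : Fin r → A,
      x - ∑ i, φ (w i) * c i ∈ I ^ (n + 1 + 1)) ?_ ?_ ?_ ?_ hx
    · rintro _ ⟨a, ha, rfl⟩
      obtain ⟨c, hc⟩ := hsp a ha
      refine ⟨fun i => φ (c i), ?_⟩
      rw [hpow]
      have h1 := Ideal.mem_map_of_mem φ hc
      rw [map_sub, map_sum] at h1
      simpa only [map_mul] using h1
    · exact ⟨fun _ => 0, by simp⟩
    · rintro x y _ _ ⟨c, hc⟩ ⟨d, hd⟩
      refine ⟨fun i => c i + d i, ?_⟩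
      have h1 : x + y - ∑ i, φ (w i) * (c i + d i) =
          (x - ∑ i, φ (w i) * c i) + (y - ∑ i, φ (w i) * d i) := by
        simp only [mul_add, Finset.sum_add_distrib]
        abel
      rw [h1]
      exact Ideal.add_mem _ hc hd
    · rintro a x _ ⟨c, hc⟩
      refine ⟨fun i => a * c i, ?_⟩
      have h1 : a • x - ∑ i, φ (w i) * (a * c i) = a * (x - ∑ i, φ (w i) * c i) := by
        rw [mul_sub, Finset.mul_sum, smul_eq_mul]
        congr 1
        exact Finset.sum_congr rfl fun i _ => by ring
      rw [h1]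
      exact Ideal.mul_mem_left _ _ hc
  · intro y hy x hx i
    let ψ : R →+* X.presheaf.stalk y := (Algz.toStalk A X y).comp φ
    let _ : Algebra R (X.presheaf.stalk y) := ψ.toAlgebra
    let _ : Module R (sysAt hGI y).Lim := Module.compHom _ ψ
    have _ : IsScalarTower R (X.presheaf.stalk y) (sysAt hGI y).Lim := ⟨fun a b c => by
      rw [Algebra.smul_def, mul_smul]
      rfl⟩
    have hflat : Module.Flat R (sysAt hGI y).Lim := hfl y hy
    have hst : ∀ k, Algz.stalkIdeal I y ^ k =
        (IsLocalRing.maximalIdeal R ^ k).map (algebraMap R (X.presheaf.stalk y)) := fun k => by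
      rw [Algz.stalkIdeal, hI, Ideal.map_map, ← Ideal.map_pow]
      rfl
    have hst1 := hst 1
    rw [pow_one, pow_one] at hst1
    rw [mem_map_smul_iff hst1]
    rw [mem_map_smul_iff (hst _)] at hx
    exact K574.FlatInd.mem_of_sum w hind x hx i

end K574.FlatTower
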