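import Groth.Agent.PerfA.QCohEpi
import Groth.Agent.PerfA.PerfLocal

/-!
# Local generation by `n` sections gives local generation by `n` global elements
-/

set_option autoImplicit false
universe u
open CategoryTheory CategoryTheory.Limits AlgebraicGeometry Opposite TopologicalSpace

namespace K574.GenLoc

variable {Y : Scheme.{u}}

/-- the coordinates of `O^n` -/
noncomputable def coord (n : ℕ) (i : Fin n) : FlatMod.freeMod Y n ⟶ Coh.structureModule Y :=
  Sigma.desc (fun j => if j = i then 𝟙 _ else 0)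

theorem sum_coord (n : ℕ) : ∑ i : Fin n, coord (Y := Y) n i ≫
    Sigma.ι (fun _ : Fin n => Coh.structureModule Y) i = 𝟙 (FlatMod.freeMod Y n) := by
  refine Sigma.hom_ext _ _ fun j => ?_
  rw [Preadditive.comp_sum, Finset.sum_eq_single j]
  · simp [coord]
  · intro b _ hb
    rw [coord, ← Category.assoc, Sigma.ι_desc, if_neg hb.symm, zero_comp]
  · simp

theorem sum_app {M N : Y.Modules} {ι : Type*} (s : Finset ι) (φ : ι → (M ⟶ N)) (W : Y.Opens)
    (x : Γ(M, W)) : (∑ i ∈ s, φ i).app W x = ∑ i ∈ s, (φ i).app W x := by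
  classical
  induction s using Finset.induction_on with
  | empty => simp
  | insert a s ha ih => rw [Finset.sum_insert ha, Finset.sum_insert ha, ← ih]; rfl

/-- the basis sections over an open -/
noncomputable def basisSec (n : ℕ) (W : Y.Opens) (i : Fin n) : Γ(FlatMod.freeMod Y n, W) :=
  (Sigma.ι (fun _ : Fin n => Coh.structureModule Y) i).app W (show Γ(Y, W) from 1)

theorem exists_coeff (n : ℕ) (W : Y.Opens) (s : Γ(FlatMod.freeMod Y n, W)) :
    ∃ a : Fin n → Γ(Y, W), s = ∑ i, a i • basisSec n W i := by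
  refine ⟨fun i => (show Γ(Y, W) from (coord n i).app W s), ?_⟩
  have h1 : s = (𝟙 (FlatMod.freeMod Y n) :).app W s := rfl
  conv_lhs => rw [h1, ← sum_coord, sum_app]
  refine Finset.sum_congr rfl fun i _ => ?_
  change (Sigma.ι (fun _ : Fin n => Coh.structureModule Y) i).app W ((coord n i).app W s) = _
  refine Eq.trans ?_ ((Sigma.ι (fun _ : Fin n => Coh.structureModule Y) i).app_smul
    (show Γ(Y, W) from (coord n i).app W s) (show Γ(Y, W) from 1))
  congr 1
  exact (mul_one (show Γ(Y, W) from (coord n i).app W s)).symm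

/-- Sections over an affine open of a quotient of a free module are generated by `n` sections. -/
theorem exists_span_of_epi {n : ℕ} {M : Y.Modules} (φ : FlatMod.freeMod Y n ⟶ M) [Epi φ]
    [Coh.IsQCoh M] {W : Y.Opens} (hW : IsAffineOpen W) :
    ∃ s : Fin n → Γ(M, W), ∀ y : Γ(M, W), ∃ a : Fin n → Γ(Y, W), y = ∑ i, a i • s i := by
  have : Coh.IsQCoh (FlatMod.freeMod Y n) :=
    Groth.Agent.PerfA.QCohEpi.isQCoh_of_isFinLocFree
      (Groth.Agent.PerfA.PerfLocal.isFinLocFree_freeMod Y n)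
  refine ⟨fun i => φ.app W (basisSec n W i), fun y => ?_⟩
  obtain ⟨s, hs⟩ := Groth.Agent.PerfA.QCohEpi.app_surjective_of_epi φ hW y
  obtain ⟨a, ha⟩ := exists_coeff n W s
  refine ⟨a, ?_⟩
  rw [← hs, ha, map_sum]
  exact Finset.sum_congr rfl fun i _ => φ.app_smul _ _

/-- transfer of generation along restriction to an open subscheme -/
theorem exists_span_of_restrict {X : Scheme.{u}} (j : Y ⟶ X) [IsOpenImmersion j] {n : ℕ}
    {M : X.Modules} {W : Y.Opens}
    (h : ∃ s : Fin n → Γ(M.restrict j, W), ∀ y : Γ(M.restrict j, W),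
      ∃ a : Fin n → Γ(Y, W), y = ∑ i, a i • s i) :
    ∃ s : Fin n → Γ(M, j ''ᵁ W), ∀ y : Γ(M, j ''ᵁ W),
      ∃ a : Fin n → Γ(X, j ''ᵁ W), y = ∑ i, a i • s i := by
  obtain ⟨s, hs⟩ := h
  refine ⟨fun i => (M.restrictAppIso j W).hom (s i), fun y => ?_⟩
  obtain ⟨a, ha⟩ := hs ((M.restrictAppIso j W).inv y)
  refine ⟨fun i => (j.appIso W).inv (a i), ?_⟩
  have h1 : (M.restrictAppIso j W).hom ((M.restrictAppIso j W).inv y) = y := by simp
  rw [← h1, ha, map_sum]
  refine Finset.sum_congr rfl fun i _ => ?_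
  exact Scheme.Modules.smul_restrictAppIso_hom_apply j M W (a i) (s i)

theorem isLocalization_away {R : CommRingCat.{u}} (x : R) {V : (Spec R).Opens}
    (hV : V = PrimeSpectrum.basicOpen x) : IsLocalization.Away x Γ(Spec R, V) := by
  subst hV
  exact StructureSheaf.IsLocalization.to_basicOpen _ x

theorem isLocalizedModule_away {R : CommRingCat.{u}} (M : ModuleCat.{u} R) (x : R)
    {V : (Spec R).Opens} (hV : V = PrimeSpectrum.basicOpen x) :
    IsLocalizedModule.Away x (tilde.toOpen M V).hom := by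
  subst hV
  infer_instance

/-- generators over `D(x)` can be taken from `M`, up to powers of `x` -/
theorem exists_local_generators {R : CommRingCat.{u}} (M : ModuleCat.{u} R) (x : R) {n : ℕ}
    {V : (Spec R).Opens} (hV : V = PrimeSpectrum.basicOpen x)
    (h : ∃ s : Fin n → Γ(tilde M, V), ∀ y : Γ(tilde M, V),
      ∃ a : Fin n → Γ(Spec R, V), y = ∑ i, a i • s i) :
    ∃ m : Fin n → M, ∀ y : M, ∃ N : ℕ, x ^ N • y ∈ Submodule.span R (Set.range m) := by
  obtain ⟨s, hs⟩ := h
  have hloc := isLocalizedModule_away M x hV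
  have hlocR := isLocalization_away x hV
  let t : M →ₗ[R] Γ(tilde M, V) := (tilde.toOpen M V).hom
  have hloc' : IsLocalizedModule (.powers x) t := hloc
  have h1 : ∀ i, ∃ (m : M) (N : ℕ), x ^ N • s i = t m := by
    intro i
    obtain ⟨⟨m, ⟨_, N, rfl⟩⟩, hm⟩ := IsLocalizedModule.surj (.powers x) t (s i)
    exact ⟨m, N, hm⟩
  choose m N hm using h1
  refine ⟨m, fun y => ?_⟩
  obtain ⟨a, ha⟩ := hs (t y)
  let P : Submodule R Γ(tilde M, V) := (Submodule.span R (Set.range m)).map t
  have h2 : ∀ i, ∃ K : ℕ, ∀ K' ≥ K, x ^ K' • (a i • s i) ∈ P := by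
    intro i
    obtain ⟨⟨r, ⟨_, k, rfl⟩⟩, hr⟩ := IsLocalization.surj (.powers x) (a i)
    refine ⟨k + N i, fun K' hK' => ?_⟩
    obtain ⟨d, rfl⟩ := Nat.exists_eq_add_of_le hK'
    have h3 : x ^ (k + N i + d) • (a i • s i) = x ^ d • r • t (m i) := by
      have e1 : x ^ k • (a i • s i) = r • s i := by
        rw [← smul_assoc, Algebra.smul_def, mul_comm]
        simp only at hr
        rw [hr, algebraMap_smul]
      rw [show k + N i + d = d + (N i + k) by ring, pow_add, pow_add, mul_smul, mul_smul, e1,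
        smul_comm (x ^ N i) r (s i), hm]
    rw [h3]
    exact P.smul_mem _ (P.smul_mem _ (Submodule.mem_map_of_mem (Submodule.subset_span ⟨i, rfl⟩)))
  choose K hK using h2
  have h4 : x ^ (∑ i, K i) • t y ∈ P := by
    rw [ha, Finset.smul_sum]
    exact Submodule.sum_mem _ fun i _ =>
      hK i _ (Finset.single_le_sum (f := K) (fun _ _ => Nat.zero_le _) (Finset.mem_univ i))
  obtain ⟨z, hz, hz'⟩ := h4
  have h5 : t (x ^ (∑ i, K i) • y) = t z := by rw [hz', map_smul]
  obtain ⟨⟨_, L, rfl⟩, hL⟩ := (IsLocalizedModule.eq_iff_exists (.powers x) t).mp h5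
  refine ⟨L + ∑ i, K i, ?_⟩
  rw [pow_add, mul_smul]
  have h6 : x ^ L • x ^ (∑ i, K i) • y = x ^ L • z := hL
  rw [h6]
  exact Submodule.smul_mem _ _ hz

/-- If `M~` is generated by `n` sections over an open containing `D(x)`, then `M` is generated by `n`
elements up to powers of `x`. -/
theorem exists_local_generators_of_epi {R : CommRingCat.{u}} (M : ModuleCat.{u} R) (x : R) {n : ℕ}
    (U : (Spec R).Opens) (hx : PrimeSpectrum.basicOpen x ≤ U)
    (φ : FlatMod.freeMod (↑U) n ⟶ (tilde M).restrict U.ι) [Epi φ] :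
    ∃ m : Fin n → M, ∀ y : M, ∃ N : ℕ, x ^ N • y ∈ Submodule.span R (Set.range m) := by
  let D : (Spec R).Opens := PrimeSpectrum.basicOpen x
  have hD : U.ι ''ᵁ (U.ι ⁻¹ᵁ D) = D := by
    rw [Scheme.Hom.image_preimage_eq_opensRange_inf, Scheme.Opens.opensRange_ι]
    exact inf_eq_right.mpr hx
  have hDa : IsAffineOpen (U.ι ⁻¹ᵁ D) := by
    rw [← Scheme.Hom.isAffineOpen_iff_of_isOpenImmersion U.ι, hD]
    exact IsAffineOpen.Spec_basicOpen _
  exact exists_local_generators M x hD
    (exists_span_of_restrict U.ι (exists_span_of_epi φ hDa))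

/-- Gluing local generators. -/
theorem exists_generators {R : Type u} [CommRing R] (M : Type u) [AddCommGroup M] [Module R M]
    {n m : ℕ} (x : Fin m → R) (hx : Ideal.span (Set.range x) = ⊤)
    (h : ∀ i, ∃ s : Fin n → M, ∀ y : M, ∃ N : ℕ, x i ^ N • y ∈ Submodule.span R (Set.range s)) :
    ∃ s : Fin (n * m) → M, Submodule.span R (Set.range s) = ⊤ := by
  choose s hs using h
  let e : Fin n × Fin m ≃ Fin (n * m) := finProdFinEquiv
  let s' : Fin (n * m) → M := fun k => s (e.symm k).2 (e.symm k).1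
  refine ⟨s', ?_⟩
  rw [eq_top_iff]
  intro y _
  refine Submodule.mem_of_span_eq_top_of_smul_pow_mem _ (Set.range x) hx y ?_
  rintro ⟨_, i, rfl⟩
  obtain ⟨N, hN⟩ := hs i y
  refine ⟨N, Submodule.span_mono ?_ hN⟩
  rintro _ ⟨k, rfl⟩
  exact ⟨e (k, i), by simp [s']⟩

end K574.GenLoc
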