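import Groth.Agent.Hensel.LocalSplit
import Groth.Agent.Etcore.FinEtPts
import Mathlib.RingTheory.Etale.QuasiFinite
import Mathlib.RingTheory.Localization.Away.Lemmas
import Mathlib.RingTheory.Flat.Rank

/-!
# Finite étale quotients of étale algebras over a henselian local ring
-/

set_option autoImplicit false
universe u

open scoped TensorProduct

namespace K574.HensFin

theorem exists_finite_etale (A E : Type u) [CommRing A] [HenselianLocalRing A] [CommRing E]
    [Algebra A E] [Algebra.Etale A E] (q : Ideal E) [q.IsPrime]
    (hq : q.comap (algebraMap A E) = IsLocalRing.maximalIdeal A) :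
    ∃ (D : Type u) (_ : CommRing D) (_ : Algebra A D), Module.Finite A D ∧ Algebra.Etale A D ∧
      Nontrivial D ∧ ∃ g : E →ₐ[A] D, Function.Surjective g := by
  obtain ⟨e, he, hf, ht⟩ := Groth.Agent.Hensel.LocalSplit.quasiFinite_split A E
  have hloc : IsLocalization.Away e (E ⧸ Ideal.span ({1 - e} : Set E)) :=
    IsLocalization.Away.quotient_of_isIdempotentElem he
  have h1 : Algebra.Etale E (E ⧸ Ideal.span ({1 - e} : Set E)) :=
    Algebra.Etale.of_isLocalizationAway e
  refine ⟨E ⧸ Ideal.span ({1 - e} : Set E), inferInstance, inferInstance, hf,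
    Algebra.Etale.comp A E _, ?_, Ideal.Quotient.mkₐ A _, Ideal.Quotient.mkₐ_surjective A _⟩
  rw [Ideal.Quotient.nontrivial_iff]
  intro h2
  have h3 : IsUnit (1 - e) := Ideal.span_singleton_eq_top.1 h2
  have h4 : e = 0 := by
    have h5 : (1 - e) * e = 0 := by rw [sub_mul, one_mul, he.eq, sub_self]
    exact (h3.mul_right_eq_zero).1 h5
  have h6 : Ideal.map (algebraMap A E) (IsLocalRing.maximalIdeal A) ≤ q := by
    rw [Ideal.map_le_iff_le_comap, hq]
  have h7 : Ideal.map (Ideal.Quotient.mk (Ideal.span ({e} : Set E)))
      (Ideal.map (algebraMap A E) (IsLocalRing.maximalIdeal A)) = ⊤ := by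
    rw [Ideal.map_map]
    exact ht
  have h8 : Ideal.map (algebraMap A E) (IsLocalRing.maximalIdeal A) = ⊤ := by
    have h9 : Function.Injective (Ideal.Quotient.mk (Ideal.span ({e} : Set E))) := by
      rw [RingHom.injective_iff_ker_eq_bot, Ideal.mk_ker, h4, Ideal.span_singleton_eq_bot]
    have h10 := congrArg (Ideal.comap (Ideal.Quotient.mk (Ideal.span ({e} : Set E)))) h7
    rw [Ideal.comap_map_of_bijective _ ⟨h9, Ideal.Quotient.mk_surjective⟩, Ideal.comap_top] at h10
    exact h10
  exact (‹q.IsPrime›.ne_top) (top_le_iff.1 (h8 ▸ h6))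

/-- A finite étale algebra over a local ring which is nontrivial: free, and its rank is the number
of points over a separably closed field. -/
theorem finrank_eq (A D : Type u) [CommRing A] [IsLocalRing A] [CommRing D] [Algebra A D]
    [Module.Finite A D] [Algebra.Etale A D] (K : Type u) [Field K] [IsSepClosed K]
    [Algebra A K] : Module.finrank A D = Nat.card (D →ₐ[A] K) := by
  have h1 : Module.Free A D := Module.free_of_flat_of_isLocalRing
  have h2 : Algebra.Etale K (K ⊗[A] D) := inferInstance
  have h3 := Groth.Agent.Etcore.FinEtPts.card_algHom K (K ⊗[A] D)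
  rw [Nat.card_congr (Algebra.TensorProduct.liftEquivRight A K D K), h3,
    Module.finrank_baseChange]

theorem faithfullyFlat (A D : Type u) [CommRing A] [IsLocalRing A] [CommRing D] [Algebra A D]
    [Module.Finite A D] [Algebra.Etale A D] [Nontrivial D] : Module.FaithfullyFlat A D := by
  have h1 : Module.Free A D := Module.free_of_flat_of_isLocalRing
  infer_instance

end K574.HensFin
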