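import Groth.Agent.Algz.K574.HensSp
import Groth.Agent.Pic13.H948.CocLift

/-!
# Surjectivity for families of henselian local rings
-/

set_option autoImplicit false
universe u

open CategoryTheory CategoryTheory.Limits AlgebraicGeometry Opposite
open scoped TensorProduct

namespace K574.HensMain

open AlgSp K574.PiInj K574.PiFin

section Alg

variable {ι : Type u} (A D : ι → Type u) [∀ i, CommRing (A i)] [∀ i, CommRing (D i)]
  [∀ i, Algebra (A i) (D i)]

/-- the ring map `∏ A i ⟶ ∏ D i` -/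
def psi : (∀ i, A i) →+* (∀ i, D i) :=
  RingHom.pi fun i => (algebraMap (A i) (D i)).comp (Pi.evalRingHom A i)

theorem isPushout (i : ι) : IsPushout (CommRingCat.ofHom (Pi.evalRingHom A i))
    (CommRingCat.ofHom (psi A D)) (CommRingCat.ofHom (algebraMap (A i) (D i)))
    (CommRingCat.ofHom (Pi.evalRingHom D i)) := by
  classical
  have w : CommRingCat.ofHom (Pi.evalRingHom A i) ≫ CommRingCat.ofHom (algebraMap (A i) (D i)) =
      CommRingCat.ofHom (psi A D) ≫ CommRingCat.ofHom (Pi.evalRingHom D i) := rfl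
  have key : ∀ (B : CommRingCat.{u}) (γ : CommRingCat.of (A i) ⟶ B)
      (χ : CommRingCat.of (∀ i, D i) ⟶ B)
      (_ : CommRingCat.ofHom (Pi.evalRingHom A i) ≫ γ = CommRingCat.ofHom (psi A D) ≫ χ),
      ∃ δ : CommRingCat.of (D i) ⟶ B, CommRingCat.ofHom (algebraMap (A i) (D i)) ≫ δ = γ ∧
        CommRingCat.ofHom (Pi.evalRingHom D i) ≫ δ = χ := by
    intro B γ χ hχ
    have h1 : ∀ a : ∀ i, A i, γ.hom (a i) = χ.hom (psi A D a) := fun a =>
      congrArg (fun f => f.hom a) hχ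
    let s : ∀ i, A i := Pi.single i 1
    have h2 : χ.hom (psi A D s) = 1 := by
      rw [← h1]
      simp [s]
    have h3 : ∀ d : ∀ i, D i, d i = 0 → χ.hom d = 0 := by
      intro d hd
      have h4 : psi A D s * d = 0 := by
        ext j
        by_cases hj : j = i
        · subst hj
          simp [hd]
        · have : psi A D s j = 0 := by
            simp [psi, s, Pi.single_eq_of_ne hj]
          simp [this]
      rw [← one_mul (χ.hom d), ← h2, ← map_mul, h4, map_zero]
    have hsurj : Function.Surjective (Pi.evalRingHom D i) := fun x => ⟨Pi.single i x, by simp⟩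
    let δ : D i →+* B := RingHom.liftOfSurjective (Pi.evalRingHom D i) hsurj
      ⟨χ.hom, fun d hd => h3 d hd⟩
    have hδ : δ.comp (Pi.evalRingHom D i) = χ.hom :=
      RingHom.liftOfRightInverse_comp _ _ _ _
    refine ⟨CommRingCat.ofHom δ, ?_, ?_⟩
    · ext a
      obtain ⟨a, rfl⟩ : ∃ a' : ∀ i, A i, a' i = a := ⟨Pi.single i a, by simp⟩
      rw [h1]
      exact RingHom.congr_fun hδ (psi A D a)
    · ext d
      exact RingHom.congr_fun hδ d
  choose δ hδ₁ hδ₂ using key
  refine ⟨⟨w⟩, ⟨PushoutCocone.IsColimit.mk w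
    (fun c => δ c.pt c.inl c.inr c.condition) (fun c => hδ₁ _ _ _ _) (fun c => hδ₂ _ _ _ _) ?_⟩⟩
  intro c m hm1 hm2
  have : Epi (CommRingCat.ofHom (Pi.evalRingHom D i)) := by
    apply ConcreteCategory.epi_of_surjective
    exact fun x => ⟨Pi.single i x, by simp⟩
  rw [← cancel_epi (CommRingCat.ofHom (Pi.evalRingHom D i)), hm2, hδ₂]

open Algebra.TensorProduct in
theorem exists_iso_pi (A : ι → CommRingCat.{u}) (T : CommRingCat.{u}) [Algebra (∀ i, A i) T]
    [Module.FinitePresentation (∀ i, A i) T] :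
    ∃ (B : ι → CommRingCat.{u}) (θ : T ⟶ CommRingCat.of (∀ i, B i)) (γ : ∀ i, A i ⟶ B i),
      IsIso θ ∧ ∀ i, CommRingCat.ofHom (algebraMap (∀ i, A i) T) ≫ θ ≫
        CommRingCat.ofHom (Pi.evalRingHom (fun j => (B j : Type u)) i) =
          CommRingCat.ofHom (Pi.evalRingHom (fun j => (A j : Type u)) i) ≫ γ i := by
  let := fun i => (Pi.evalRingHom (fun i => (A i : Type u)) i).toAlgebra
  have hb := PiFin.bijective_pi (A := fun i => (A i : Type u)) T
  let θ : T →+* (∀ i, A i ⊗[∀ i, A i] T) := RingHom.pi fun i =>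
      (includeRight : T →ₐ[∀ i, A i] A i ⊗[∀ i, A i] T).toRingHom
  refine ⟨fun i => .of (A i ⊗[∀ i, A i] T), CommRingCat.ofHom (R := T)
    (S := ∀ i, A i ⊗[∀ i, A i] T) θ, fun i => CommRingCat.ofHom (R := A i)
      (S := A i ⊗[∀ i, A i] T) includeLeftRingHom, ?_, fun i => ?_⟩
  · exact (ConcreteCategory.isIso_iff_bijective _).2 hb
  · ext x
    change (1 : A i) ⊗ₜ[∀ i, A i] (algebraMap (∀ i, A i) T x) = (x i) ⊗ₜ[∀ i, A i] (1 : T)
    rw [Algebra.algebraMap_eq_smul_one, TensorProduct.tmul_smul, TensorProduct.smul_tmul',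
      Algebra.smul_def, mul_one]
    rfl

end Alg

variable {S : Scheme.{u}}

theorem surjective [IsAffine S] {X : Sp S} (hqc : IsQuasiCompactSp X)
    (hqs : IsQuasiSeparatedSp X) {ι : Type u} (A : ι → CommRingCat.{u})
    [∀ i, HenselianLocalRing (A i)] (h : Spec (CommRingCat.of (∀ i, A i)) ⟶ S)
    (f : ∀ i, (yon S).obj (Over.mk (ev A i ≫ h)) ⟶ X) :
    ∃ g : (yon S).obj (Over.mk h) ⟶ X,
      ∀ i, (yon S).map (Over.homMk (ev A i) rfl : Over.mk (ev A i ≫ h) ⟶ Over.mk h) ≫ g =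
        f i := by
  obtain ⟨U, p, hU, hp, hs⟩ := K609.QC.exists_affine_chart hqc
  obtain ⟨n, hn⟩ := HensSp.exists_lift_bound hqs p hp
  choose D iR iA hfin het hnt hrk τ hτ using fun i =>
    HensSp.exists_finite_lift p hp hs hn (A i) (ev A i ≫ h) (f i)
  let := piAlg (fun i => (A i : Type u)) D
  have hff : ∀ i, Module.FaithfullyFlat (A i) (D i) := fun i => HensFin.faithfullyFlat (A i) (D i)
  have hfree : ∀ i, Module.Free (A i) (D i) := fun i => Module.free_of_flat_of_isLocalRing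
  -- splittings
  have hsp : ∀ i, ∃ (s : D i →ₗ[A i] (Fin n → A i)) (r : (Fin n → A i) →ₗ[A i] D i),
      r ∘ₗ s = LinearMap.id := by
    intro i
    let b := (Module.finBasis (A i) (D i)).equivFun
    let r : (Fin n → A i) →ₗ[A i] D i :=
      b.symm.toLinearMap ∘ₗ LinearMap.funLeft (A i) (A i) (Fin.castLE (hrk i))
    have hr : Function.Surjective r := b.symm.surjective.comp
      (LinearMap.funLeft_surjective_of_injective _ _ _ (Fin.castLE_injective (hrk i)))
    obtain ⟨s, hs⟩ := Module.projective_lifting_property r LinearMap.id hr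
    exact ⟨s, r, hs⟩
  choose s r hrs using hsp
  obtain ⟨hfn, hpr⟩ := PiFin.fp n s r hrs
  have hret : ∀ i, ∃ ρ : D i →ₗ[A i] A i, ρ 1 = 1 := fun i =>
    Groth.Agent.Pic13.H948.CocLift.exists_retraction (A i) (D i)
  choose ρ hρ using hret
  have hFF := PiFin.ff ρ hρ hpr
  have hfp : Module.FinitePresentation (∀ i, A i) (∀ i, D i) :=
    Module.finitePresentation_of_projective _ _
  -- the covering
  let c₀ : Spec (CommRingCat.of (∀ i, D i)) ⟶ Spec (CommRingCat.of (∀ i, A i)) :=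
    Spec.map (CommRingCat.ofHom (algebraMap (∀ i, A i) (∀ i, D i)))
  have hc₀f : Flat c₀ := by
    rw [Flat.SpecMap_iff]
    exact RingHom.flat_algebraMap_iff.2 inferInstance
  have hc₀p : LocallyOfFinitePresentation c₀ := by
    rw [LocallyOfFinitePresentation.SpecMap_iff]
    exact RingHom.finitePresentation_algebraMap.2 inferInstance
  have hc₀s : Surjective c₀ := ⟨fun x =>
    PrimeSpectrum.comap_surjective_of_faithfullyFlat (A := ∀ i, A i) (B := ∀ i, D i) x⟩
  let T : Over S := Over.mk h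
  let T' : Over S := Over.mk (c₀ ≫ h)
  let c : T' ⟶ T := Over.homMk c₀ rfl
  let DC : ι → CommRingCat.{u} := fun i => .of (D i)
  let e : ∀ i, Over.mk (ev A i ≫ h) ⟶ T := fun i => Over.homMk (ev A i) rfl
  let a : ∀ i, Over.mk (Spec.map (CommRingCat.ofHom (algebraMap (A i) (D i))) ≫ ev A i ≫ h) ⟶
      Over.mk (ev A i ≫ h) := fun i =>
    Over.homMk (Spec.map (CommRingCat.ofHom (algebraMap (A i) (D i)))) rfl
  have hsq : ∀ i, IsPullback (ev DC i)
      (Spec.map (CommRingCat.ofHom (algebraMap (A i) (D i)))) c₀ (ev A i) := fun i =>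
    (isPullback_SpecMap_of_isPushout _ _ _ _ (isPushout (fun i => (A i : Type u)) D i)).flip
  have hevw : ∀ i, ev DC i ≫ c₀ ≫ h =
      Spec.map (CommRingCat.ofHom (algebraMap (A i) (D i))) ≫ ev A i ≫ h := fun i => by
    rw [← Category.assoc, (hsq i).w, Category.assoc]
  let d : ∀ i, Over.mk (Spec.map (CommRingCat.ofHom (algebraMap (A i) (D i))) ≫ ev A i ≫ h) ⟶
      T' := fun i => Over.homMk (ev DC i) (hevw i)
  have hda : ∀ i, d i ≫ c = a i ≫ e i := fun i => Over.OverMorphism.ext (hsq i).w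
  obtain ⟨t₀, ht₀⟩ := PiPts.exists_lift DC U.left (fun i => (τ i).left)
  let t : T' ⟶ U := Over.homMk t₀ (by
    refine PiInj.hom_ext DC S _ _ fun i => ?_
    rw [← Category.assoc, ht₀]
    exact (Over.w (τ i)).trans (hevw i).symm)
  have hdt : ∀ i, d i ≫ t = τ i := fun i => Over.OverMorphism.ext (ht₀ i)
  -- compatibility over any scheme mapping to one of the factors
  have key : ∀ (i : ι) (R : Over S) (u : R ⟶ T') (v : R ⟶ Over.mk (ev A i ≫ h)),
      u ≫ c = v ≫ e i → (yon S).map u ≫ (yon S).map t ≫ p = (yon S).map v ≫ f i := by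
    intro i R u v huv
    have h1 : u.left ≫ c₀ = v.left ≫ ev A i := congrArg (fun f => f.left) huv
    let w₀ := (hsq i).lift u.left v.left h1
    have hw₁ : w₀ ≫ ev DC i = u.left := (hsq i).lift_fst _ _ h1
    have hw₂ : w₀ ≫ Spec.map (CommRingCat.ofHom (algebraMap (A i) (D i))) = v.left :=
      (hsq i).lift_snd _ _ h1
    let w : R ⟶ Over.mk (Spec.map (CommRingCat.ofHom (algebraMap (A i) (D i))) ≫ ev A i ≫ h) :=
      Over.homMk w₀ (by
        rw [← Over.w v, ← hw₂, Category.assoc]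
        rfl)
    have hw₃ : w ≫ d i = u := Over.OverMorphism.ext hw₁
    have hw₄ : w ≫ a i = v := Over.OverMorphism.ext hw₂
    rw [← hw₃, ← hw₄, Functor.map_comp, Functor.map_comp, Category.assoc, Category.assoc,
      ← Category.assoc ((yon S).map (d i)), ← Functor.map_comp (yon S) (d i) t, hdt, hτ]
  -- the universal case of the gluing condition
  let T₂ : CommRingCat.{u} := .of ((∀ i, D i) ⊗[∀ i, A i] (∀ i, D i))
  let : Algebra (∀ i, A i) T₂ :=
    inferInstanceAs (Algebra (∀ i, A i) ((∀ i, D i) ⊗[∀ i, A i] (∀ i, D i)))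
  have hT₂ : Module.FinitePresentation (∀ i, A i) T₂ := by
    have : Module.FinitePresentation (∀ i, A i) ((∀ i, D i) ⊗[∀ i, A i] (∀ i, D i)) :=
      Module.finitePresentation_of_projective _ _
    exact this
  obtain ⟨BC, θ, γ, hθ, hγ⟩ := exists_iso_pi A T₂
  obtain ⟨κ, hκ, hκ₁⟩ : ∃ κ : Spec (CommRingCat.of (∀ i, BC i)) ⟶ pullback c₀ c₀, IsIso κ ∧
      κ ≫ pullback.fst c₀ c₀ ≫ c₀ =
        Spec.map (CommRingCat.ofHom (algebraMap (∀ i, A i) T₂) ≫ θ) := by
    refine ⟨Spec.map θ ≫ (pullbackSpecIso (∀ i, A i) (∀ i, D i) (∀ i, D i)).inv,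
      inferInstance, ?_⟩
    simp only [Category.assoc]
    rw [pullbackSpecIso_inv_fst_assoc, ← Spec.map_comp, ← Spec.map_comp]
    rfl
  have hcond : κ ≫ pullback.snd c₀ c₀ ≫ c₀ = κ ≫ pullback.fst c₀ c₀ ≫ c₀ := by
    rw [pullback.condition]
  let Q : Over S := Over.mk (κ ≫ pullback.fst c₀ c₀ ≫ c₀ ≫ h)
  let q₁ : Q ⟶ T' := Over.homMk (κ ≫ pullback.fst c₀ c₀) (Category.assoc _ _ _)
  let q₂ : Q ⟶ T' := Over.homMk (κ ≫ pullback.snd c₀ c₀) (by
    have h1 := congrArg (fun f => f ≫ h) hcond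
    simp only [Category.assoc] at h1
    exact (Category.assoc _ _ _).trans h1)
  have hq₁₂ : q₁ ≫ c = q₂ ≫ c := Over.OverMorphism.ext (by
    change (κ ≫ pullback.fst c₀ c₀) ≫ c₀ = (κ ≫ pullback.snd c₀ c₀) ≫ c₀
    simpa only [Category.assoc] using hcond.symm)
  have huniv : (yon S).map q₁ ≫ (yon S).map t ≫ p = (yon S).map q₂ ≫ (yon S).map t ≫ p := by
    refine AsEq.injective hqs BC _ _ _ fun i => ?_
    let z : Over.mk (ev BC i ≫ κ ≫ pullback.fst c₀ c₀ ≫ c₀ ≫ h) ⟶ Q :=
      Over.homMk (ev BC i) rfl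
    have hz₀ : ev BC i ≫ κ ≫ pullback.fst c₀ c₀ ≫ c₀ = Spec.map (γ i) ≫ ev A i := by
      rw [hκ₁, ev, ev, ← Spec.map_comp, ← Spec.map_comp, Category.assoc, hγ]
    let v : Over.mk (ev BC i ≫ κ ≫ pullback.fst c₀ c₀ ≫ c₀ ≫ h) ⟶ Over.mk (ev A i ≫ h) :=
      Over.homMk (Spec.map (γ i)) (by
        have h1 := congrArg (fun f => f ≫ h) hz₀
        simp only [Category.assoc] at h1
        exact h1.symm)
    have h1 : (z ≫ q₁) ≫ c = v ≫ e i := Over.OverMorphism.ext (by
      change (ev BC i ≫ κ ≫ pullback.fst c₀ c₀) ≫ c₀ = Spec.map (γ i) ≫ ev A i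
      simpa only [Category.assoc] using hz₀)
    have h2 : (z ≫ q₂) ≫ c = v ≫ e i :=
      (Category.assoc _ _ _).trans ((congrArg (fun f => z ≫ f) hq₁₂.symm).trans
        ((Category.assoc _ _ _).symm.trans h1))
    have h3 := key i _ (z ≫ q₁) v h1
    have h4 := key i _ (z ≫ q₂) v h2
    have h5 : ∀ q : Q ⟶ T', (yon S).map (z ≫ q) ≫ (yon S).map t ≫ p =
        (yon S).map z ≫ (yon S).map q ≫ (yon S).map t ≫ p := fun q => by
      rw [Functor.map_comp]
      exact Category.assoc _ _ _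
    exact (h5 q₁).symm.trans (h3.trans (h4.symm.trans (h5 q₂)))
  have hglue : ∀ (R : Over S) (u v : R ⟶ T'), u ≫ c = v ≫ c →
      (yon S).map u ≫ (yon S).map t ≫ p = (yon S).map v ≫ (yon S).map t ≫ p := by
    intro R u v huv
    have h1 : u.left ≫ c₀ = v.left ≫ c₀ := congrArg (fun f => f.left) huv
    have hm₁ : (pullback.lift u.left v.left h1 ≫ inv κ) ≫ κ ≫ pullback.fst c₀ c₀ = u.left := by
      rw [Category.assoc, IsIso.inv_hom_id_assoc, pullback.lift_fst]
    have hm₂ : (pullback.lift u.left v.left h1 ≫ inv κ) ≫ κ ≫ pullback.snd c₀ c₀ = v.left := by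
      rw [Category.assoc, IsIso.inv_hom_id_assoc, pullback.lift_snd]
    let m : R ⟶ Q := Over.homMk (pullback.lift u.left v.left h1 ≫ inv κ) (by
      have h2 := congrArg (fun f => f ≫ c₀ ≫ h) hm₁
      refine Eq.trans ?_ (Over.w u)
      simp only [Category.assoc] at h2
      exact (Category.assoc _ _ _).trans h2)
    have hm₃ : m ≫ q₁ = u := Over.OverMorphism.ext hm₁
    have hm₄ : m ≫ q₂ = v := Over.OverMorphism.ext hm₂
    rw [← hm₃, ← hm₄, Functor.map_comp, Functor.map_comp, Category.assoc, Category.assoc, huniv]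
  obtain ⟨g, hg, -⟩ := K613.Basic.glue (T := T) c hc₀f hc₀p hc₀s ((yon S).map t ≫ p) hglue
  refine ⟨g, fun i => ?_⟩
  have hepi : Epi ((yon S).map (a i)) := by
    refine K613.Basic.epi_yon (a i) ?_ ?_ ?_
    · change Flat (Spec.map (CommRingCat.ofHom (algebraMap (A i) (D i))))
      rw [Flat.SpecMap_iff]
      exact RingHom.flat_algebraMap_iff.2 inferInstance
    · change LocallyOfFinitePresentation (Spec.map (CommRingCat.ofHom (algebraMap (A i) (D i))))
      rw [LocallyOfFinitePresentation.SpecMap_iff]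
      exact RingHom.finitePresentation_algebraMap.2 inferInstance
    · exact ⟨fun x => PrimeSpectrum.comap_surjective_of_faithfullyFlat (A := A i) (B := D i) x⟩
  rw [← cancel_epi ((yon S).map (a i))]
  have h1 : (yon S).map (a i) ≫ (yon S).map (e i) ≫ g = (yon S).map (a i ≫ e i) ≫ g := by
    rw [Functor.map_comp]
    exact (Category.assoc _ _ _).symm
  have h2 : (yon S).map (d i ≫ c) ≫ g = (yon S).map (d i) ≫ (yon S).map t ≫ p := by
    rw [← hg, Functor.map_comp]
    exact Category.assoc _ _ _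
  refine h1.trans ?_
  rw [← hda]
  exact h2.trans (key i _ (d i) (a i) (hda i))

end K574.HensMain
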