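import Groth.Agent.CalgA.MLBasic
import Mathlib.RingTheory.Flat.FaithfullyFlat.Basic
import Mathlib.RingTheory.Finiteness.ModuleFinitePresentation
import Mathlib.LinearAlgebra.FreeModule.StrongRankCondition

/-!
# Products of finite algebras over a product of rings
-/

set_option autoImplicit false
universe u

open scoped TensorProduct

namespace K574.PiFin

variable {ι : Type u} (A D : ι → Type u) [∀ i, CommRing (A i)] [∀ i, CommRing (D i)]
  [∀ i, Algebra (A i) (D i)]

/-- `∏ D i` as an algebra over `∏ A i`. -/
@[reducible] def piAlg : Algebra (∀ i, A i) (∀ i, D i) where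
  algebraMap := RingHom.pi fun i => (algebraMap (A i) (D i)).comp (Pi.evalRingHom A i)
  smul := fun a d i => a i • d i
  commutes' := fun r x => by
    ext i
    exact Algebra.commutes _ _
  smul_def' := fun r x => by
    ext i
    exact Algebra.smul_def _ _

variable {A D}

theorem fp (n : ℕ) (s : ∀ i, D i →ₗ[A i] (Fin n → A i)) (r : ∀ i, (Fin n → A i) →ₗ[A i] D i)
    (hrs : ∀ i, r i ∘ₗ s i = LinearMap.id) :
    letI := piAlg A D
    Module.Finite (∀ i, A i) (∀ i, D i) ∧ Module.Projective (∀ i, A i) (∀ i, D i) := by
  let := piAlg A D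
  let S : (∀ i, D i) →ₗ[∀ i, A i] (Fin n → ∀ i, A i) :=
    { toFun := fun d j i => s i (d i) j
      map_add' := fun x y => by
        ext j i
        simp
      map_smul' := fun c x => by
        ext j i
        change s i (c i • x i) j = c i * s i (x i) j
        rw [map_smul]
        rfl }
  let P : (Fin n → ∀ i, A i) →ₗ[∀ i, A i] (∀ i, D i) :=
    { toFun := fun x i => r i (fun j => x j i)
      map_add' := fun x y => by
        ext i
        change r i _ = r i _ + r i _
        rw [← map_add]
        rfl
      map_smul' := fun c x => by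
        ext i
        change r i _ = c i • r i _
        rw [← map_smul]
        rfl }
  have h : P ∘ₗ S = LinearMap.id := by
    ext d i
    exact LinearMap.congr_fun (hrs i) (d i)
  refine ⟨Module.Finite.of_surjective P fun d => ⟨S d, LinearMap.congr_fun h d⟩,
    Module.Projective.of_split S P h⟩

theorem ff (ρ : ∀ i, D i →ₗ[A i] A i) (hρ : ∀ i, ρ i 1 = 1)
    (h : letI := piAlg A D; Module.Projective (∀ i, A i) (∀ i, D i)) :
    letI := piAlg A D
    Module.FaithfullyFlat (∀ i, A i) (∀ i, D i) := by
  let := piAlg A D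
  have h' : Module.Projective (∀ i, A i) (∀ i, D i) := h
  have hf : Module.Flat (∀ i, A i) (∀ i, D i) := inferInstance
  let P : (∀ i, D i) →ₗ[∀ i, A i] (∀ i, A i) :=
    { toFun := fun x i => ρ i (x i)
      map_add' := fun x y => by
        ext i
        simp
      map_smul' := fun c x => by
        ext i
        change ρ i (c i • x i) = c i * ρ i (x i)
        rw [map_smul]
        rfl }
  refine ⟨fun m hm htop => ?_⟩
  have h1 : (1 : ∀ i, D i) ∈ m • (⊤ : Submodule (∀ i, A i) (∀ i, D i)) := by
    rw [htop]
    trivial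
  have h2 : P 1 ∈ (m • (⊤ : Submodule (∀ i, A i) (∀ i, D i))).map P := ⟨1, h1, rfl⟩
  rw [Submodule.map_smul''] at h2
  have h3 : P 1 = 1 := by
    ext i
    exact hρ i
  rw [h3] at h2
  have h4 : (1 : ∀ i, A i) ∈ m := by
    have h5 : m • (⊤ : Submodule (∀ i, A i) (∀ i, D i)).map P ≤ m := by
      rw [Submodule.smul_le]
      intro a ha b _
      exact Ideal.mul_mem_right b m ha
    exact h5 h2
  exact hm.ne_top (Ideal.eq_top_of_isUnit_mem _ h4 isUnit_one)

theorem tensor_bij {R M N : Type*} [CommRing R] [AddCommGroup M] [Module R M] [AddCommGroup N]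
    [Module R N] (e : R ≃ₗ[R] N) : Function.Bijective (fun m : M => m ⊗ₜ[R] e 1) := by
  have h := ((TensorProduct.rid R M).symm ≪≫ₗ
    TensorProduct.congr (LinearEquiv.refl R M) e).bijective
  have h2 : (fun m : M => m ⊗ₜ[R] e 1) = ⇑((TensorProduct.rid R M).symm ≪≫ₗ
      TensorProduct.congr (LinearEquiv.refl R M) e) := by
    funext m
    simp
  rw [h2]
  exact h

/-- A finitely presented algebra over a product of rings is a product of algebras. -/
theorem bijective_pi (T : Type u) [CommRing T] [Algebra (∀ i, A i) T]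
    [Module.FinitePresentation (∀ i, A i) T] :
    letI := fun i => (Pi.evalRingHom A i).toAlgebra
    Function.Bijective (RingHom.pi fun i =>
      (Algebra.TensorProduct.includeRight : T →ₐ[∀ i, A i] A i ⊗[∀ i, A i] T).toRingHom) := by
  let := fun i => (Pi.evalRingHom A i).toAlgebra
  let p := TensorProduct.piRightHom (∀ i, A i) (∀ i, A i) T A
  have hp : Function.Bijective p :=
    ⟨Groth.Agent.CalgA.MLBasic.piRightHom_injective_of_finitePresentation A,
      Groth.Agent.CalgA.MLBasic.piRightHom_surjective_of_finite A⟩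
  let E : (∀ i, T ⊗[∀ i, A i] A i) ≃ (∀ i, A i ⊗[∀ i, A i] T) :=
    Equiv.piCongrRight fun i => (TensorProduct.comm _ _ _).toEquiv
  have h1 := E.bijective.comp (hp.comp (tensor_bij (M := T)
    { AddEquiv.refl (∀ i, A i) with
      map_smul' := fun r x => rfl }))
  exact h1

end K574.PiFin
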