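import Groth.Agent.Algz.K574.AsEq
import Groth.Agent.Algz.K574.EtBd
import Groth.Agent.Algz.K574.HensFin
import Groth.Agent.Algz.K574.PiFin
import Groth.Agent.AlgSp.K613.Basic
import Groth.Agent.AlgSp.K609.QC

/-!
# Points of algebraic spaces with values in products of henselian local rings
-/

set_option autoImplicit false
universe u

open CategoryTheory CategoryTheory.Limits AlgebraicGeometry Opposite

namespace K574.HensSp

open AlgSp

variable {S : Scheme.{u}}

/-- The fibre product of a chart with itself is quasi-compact. -/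
theorem exists_rel [IsAffine S] {X : Sp S} (hqs : IsQuasiSeparatedSp X) {U : Over S}
    [IsAffine U.left] (p : (yon S).obj U ⟶ X) (hp : RepWith @Etale p) :
    ∃ (E : Over S) (e₁ e₂ : E ⟶ U), IsPullback ((yon S).map e₁) ((yon S).map e₂) p p ∧
      Etale e₂.left ∧ CompactSpace E.left := by
  obtain ⟨E, j, hj, hP, h1, h2⟩ := AsEq.exists_equalizer hqs (T := U ⨯ U)
    ((yon S).map Limits.prod.fst ≫ p) ((yon S).map Limits.prod.snd ≫ p)
  have hpb : IsPullback ((yon S).map (j ≫ Limits.prod.fst)) ((yon S).map (j ≫ Limits.prod.snd))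
      p p := by
    refine K613.Basic.isPullback_of_yon ?_ fun W a b hab => ?_
    · rw [Functor.map_comp, Functor.map_comp, Category.assoc, Category.assoc, h1]
    · obtain ⟨a, rfl⟩ := (yon S).map_surjective a
      obtain ⟨b, rfl⟩ := (yon S).map_surjective b
      obtain ⟨w, hw⟩ := h2 W (Limits.prod.lift a b) (by
        rw [← Category.assoc, ← Category.assoc, ← Functor.map_comp, ← Functor.map_comp,
          Limits.prod.lift_fst, Limits.prod.lift_snd, hab])
      refine ⟨(yon S).map w, ⟨?_, ?_⟩, ?_⟩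
      · rw [← Functor.map_comp, ← Category.assoc, hw, Limits.prod.lift_fst]
      · rw [← Functor.map_comp, ← Category.assoc, hw, Limits.prod.lift_snd]
      · rintro y ⟨hy1, hy2⟩
        obtain ⟨y, rfl⟩ := (yon S).map_surjective y
        congr 1
        rw [← cancel_mono j, hw]
        rw [← Functor.map_comp] at hy1 hy2
        apply Limits.prod.hom_ext
        · rw [Limits.prod.lift_fst, Category.assoc]
          exact (yon S).map_injective hy1
        · rw [Limits.prod.lift_snd, Category.assoc]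
          exact (yon S).map_injective hy2
  refine ⟨E, j ≫ Limits.prod.fst, j ≫ Limits.prod.snd, hpb, hp.property _ _ _ hpb, ?_⟩
  have hU : IsAffine (U ⨯ U).left := by
    have : IsAffine (pullback U.hom U.hom) := inferInstance
    exact .of_isIso (Over.prodLeftIsoPullback U U).hom
  have hP' : QuasiCompact j.left := hP
  rw [quasiCompact_iff_compactSpace] at hP'
  exact hP'

theorem exists_lift_bound [IsAffine S] {X : Sp S} (hqs : IsQuasiSeparatedSp X) {U : Over S}
    [IsAffine U.left] (p : (yon S).obj U ⟶ X) (hp : RepWith @Etale p) :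
    ∃ n : ℕ, ∀ (K : Type u) [Field K] [IsSepClosed K] (s : Spec (.of K) ⟶ S)
      (t : (yon S).obj (Over.mk s) ⟶ X),
      Finite {w : Over.mk s ⟶ U // (yon S).map w ≫ p = t} ∧
        Nat.card {w : Over.mk s ⟶ U // (yon S).map w ≫ p = t} ≤ n := by
  obtain ⟨E, e₁, e₂, hpb, he, hc⟩ := exists_rel hqs p hp
  obtain ⟨n, hn⟩ := EtBd.exists_bound e₂.left
  refine ⟨n, fun K _ _ s t => ?_⟩
  rcases isEmpty_or_nonempty {w : Over.mk s ⟶ U // (yon S).map w ≫ p = t} with hem | ⟨⟨w₀, hw₀⟩⟩
  · exact ⟨inferInstance, by rw [Nat.card_of_isEmpty]; exact Nat.zero_le _⟩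
  have h1 : ∀ w : {w : Over.mk s ⟶ U // (yon S).map w ≫ p = t},
      ∃ l : Over.mk s ⟶ E, l ≫ e₁ = w.1 ∧ l ≫ e₂ = w₀ := by
    rintro ⟨w, hw⟩
    obtain ⟨l, hl⟩ := (yon S).map_surjective (hpb.lift ((yon S).map w) ((yon S).map w₀)
      (hw.trans hw₀.symm))
    refine ⟨l, (yon S).map_injective ?_, (yon S).map_injective ?_⟩
    · rw [Functor.map_comp, hl, hpb.lift_fst]
    · rw [Functor.map_comp, hl, hpb.lift_snd]
  choose l hl₁ hl₂ using h1
  obtain ⟨hf, hcard⟩ := hn K w₀.left
  let Ψ : {w : Over.mk s ⟶ U // (yon S).map w ≫ p = t} →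
      {l : Spec (.of K) ⟶ E.left // l ≫ e₂.left = w₀.left} := fun w =>
    ⟨(l w).left, by rw [← Over.comp_left, hl₂]⟩
  have hΨ : Function.Injective Ψ := by
    intro w w' hww
    have h2 : (l w).left = (l w').left := congrArg Subtype.val hww
    have h3 : l w = l w' := Over.OverMorphism.ext h2
    apply Subtype.ext
    rw [← hl₁ w, ← hl₁ w', h3]
  exact ⟨Finite.of_injective Ψ hΨ, (Nat.card_le_card_of_injective Ψ hΨ).trans hcard⟩

theorem exists_finite_lift {X : Sp S} {U : Over S} (p : (yon S).obj U ⟶ X)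
    (hp : RepWith @Etale p) (hs : RepWith @Surjective p) {n : ℕ}
    (hn : ∀ (K : Type u) [Field K] [IsSepClosed K] (s : Spec (.of K) ⟶ S)
      (t : (yon S).obj (Over.mk s) ⟶ X),
      Finite {w : Over.mk s ⟶ U // (yon S).map w ≫ p = t} ∧
        Nat.card {w : Over.mk s ⟶ U // (yon S).map w ≫ p = t} ≤ n)
    (A : Type u) [CommRing A] [HenselianLocalRing A] (s : Spec (.of A) ⟶ S)
    (f : (yon S).obj (Over.mk s) ⟶ X) :
    ∃ (D : Type u) (_ : CommRing D) (_ : Algebra A D), Module.Finite A D ∧ Algebra.Etale A D ∧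
      Nontrivial D ∧ Module.finrank A D ≤ n ∧
      ∃ τ : Over.mk (Spec.map (CommRingCat.ofHom (algebraMap A D)) ≫ s) ⟶ U,
        (yon S).map τ ≫ p = (yon S).map (Over.homMk
          (Spec.map (CommRingCat.ofHom (algebraMap A D))) rfl :
            Over.mk (Spec.map (CommRingCat.ofHom (algebraMap A D)) ≫ s) ⟶ Over.mk s) ≫ f := by
  let V := hp.rep.pullback f
  let snd : V ⟶ Over.mk s := hp.rep.snd f
  obtain ⟨fst, hfst⟩ := (yon S).map_surjective (hp.rep.fst f)
  have hpb : IsPullback ((yon S).map fst) ((yon S).map snd) p f := by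
    rw [hfst]
    exact hp.rep.isPullback f
  have hse : Etale (Y := Spec (.of A)) snd.left := hp.property _ _ _ hpb
  have hss : Surjective (Y := Spec (.of A)) snd.left := hs.property _ _ _ hpb
  obtain ⟨v, hv⟩ := hss.surj (IsLocalRing.closedPoint A)
  obtain ⟨W, hW, hvW, -⟩ := exists_isAffineOpen_mem_and_subset (X := V.left) (x := v) (U := ⊤)
    trivial
  obtain ⟨φ, hφ⟩ := Spec.map_surjective (R := .of A) (hW.fromSpec ≫ snd.left)
  have hφe : φ.hom.Etale := by
    have h2 : Etale (Spec.map φ) := by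
      rw [hφ]
      infer_instance
    exact (HasRingHomProperty.Spec_iff (P := @Etale)).1 h2
  let : Algebra A Γ(V.left, W) := φ.hom.toAlgebra
  have : Algebra.Etale A Γ(V.left, W) := hφe
  obtain ⟨q, hq⟩ : ∃ q : Spec Γ(V.left, W), hW.fromSpec q = v := by
    have : v ∈ Set.range hW.fromSpec := by rw [hW.range_fromSpec]; exact hvW
    exact this
  have hq' : Ideal.comap (algebraMap A Γ(V.left, W)) q.asIdeal = IsLocalRing.maximalIdeal A := by
    have h3 : (Spec.map φ) q = IsLocalRing.closedPoint A := by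
      rw [hφ, Scheme.Hom.comp_apply, hq, hv]
    exact congrArg PrimeSpectrum.asIdeal h3
  have hqp : q.asIdeal.IsPrime := PrimeSpectrum.isPrime q
  obtain ⟨D, _, _, hD1, hD2, hD3, g, hg⟩ := HensFin.exists_finite_etale A Γ(V.left, W) q.asIdeal hq'
  let γ : Spec (.of D) ⟶ V.left := Spec.map (CommRingCat.ofHom g.toRingHom) ≫ hW.fromSpec
  have hγ : γ ≫ snd.left = Spec.map (CommRingCat.ofHom (algebraMap A D)) := by
    simp only [γ, Category.assoc]
    rw [← hφ, ← Spec.map_comp]
    congr 1
    ext a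
    exact g.commutes a
  have hγm : Mono γ := by
    have h4 : IsClosedImmersion (Spec.map (CommRingCat.ofHom g.toRingHom)) :=
      IsClosedImmersion.spec_of_surjective _ hg
    exact mono_comp _ _
  let γ' : Over.mk (Spec.map (CommRingCat.ofHom (algebraMap A D)) ≫ s) ⟶ V :=
    Over.homMk γ (by
      rw [← Over.w snd, ← Category.assoc, hγ]
      rfl)
  have hγ' : γ' ≫ snd = Over.homMk (Spec.map (CommRingCat.ofHom (algebraMap A D))) rfl :=
    Over.OverMorphism.ext hγ
  refine ⟨D, inferInstance, inferInstance, hD1, hD2, hD3, ?_, γ' ≫ fst, ?_⟩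
  · let K := AlgebraicClosure (IsLocalRing.ResidueField A)
    let : Algebra A K := ((algebraMap (IsLocalRing.ResidueField A) K).comp
      (algebraMap A (IsLocalRing.ResidueField A))).toAlgebra
    rw [HensFin.finrank_eq A D K]
    obtain ⟨hfin, hcard⟩ := hn K (Spec.map (CommRingCat.ofHom (algebraMap A K)) ≫ s)
      ((yon S).map (Over.homMk (Spec.map (CommRingCat.ofHom (algebraMap A K))) rfl :
        Over.mk (Spec.map (CommRingCat.ofHom (algebraMap A K)) ≫ s) ⟶ Over.mk s) ≫ f)
    have hχ : ∀ χ : D →ₐ[A] K, Spec.map (CommRingCat.ofHom χ.toRingHom) ≫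
        Spec.map (CommRingCat.ofHom (algebraMap A D)) =
          Spec.map (CommRingCat.ofHom (algebraMap A K)) := by
      intro χ
      rw [← Spec.map_comp]
      congr 1
      ext a
      exact χ.commutes a
    let P : ∀ χ : D →ₐ[A] K, Over.mk (Spec.map (CommRingCat.ofHom (algebraMap A K)) ≫ s) ⟶ V :=
      fun χ => Over.homMk (Spec.map (CommRingCat.ofHom χ.toRingHom) ≫ γ) (by
        rw [← Over.w snd, Category.assoc, ← Category.assoc γ, hγ, ← Category.assoc, hχ]
        rfl)
    have hP : ∀ χ, P χ ≫ snd =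
        Over.homMk (Spec.map (CommRingCat.ofHom (algebraMap A K))) rfl := fun χ =>
      Over.OverMorphism.ext (by
        change (Spec.map (CommRingCat.ofHom χ.toRingHom) ≫ γ) ≫ snd.left = _
        rw [Category.assoc, hγ, hχ]
        rfl)
    let Φ : (D →ₐ[A] K) → {w : Over.mk (Spec.map (CommRingCat.ofHom (algebraMap A K)) ≫ s) ⟶ U //
        (yon S).map w ≫ p = (yon S).map (Over.homMk
          (Spec.map (CommRingCat.ofHom (algebraMap A K))) rfl :
            Over.mk (Spec.map (CommRingCat.ofHom (algebraMap A K)) ≫ s) ⟶ Over.mk s) ≫ f} :=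
      fun χ => ⟨P χ ≫ fst, by
        rw [Functor.map_comp, Category.assoc, hpb.w, ← Category.assoc, ← Functor.map_comp, hP]⟩
    have hΦ : Function.Injective Φ := by
      intro χ χ' h
      have h1 : P χ ≫ fst = P χ' ≫ fst := congrArg Subtype.val h
      have h2 : (yon S).map (P χ) = (yon S).map (P χ') := by
        apply hpb.hom_ext
        · rw [← Functor.map_comp, ← Functor.map_comp, h1]
        · rw [← Functor.map_comp, ← Functor.map_comp, hP, hP]
      have h3 : P χ = P χ' := (yon S).map_injective h2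
      have h4 : Spec.map (CommRingCat.ofHom χ.toRingHom) ≫ γ =
          Spec.map (CommRingCat.ofHom χ'.toRingHom) ≫ γ := congrArg (fun f => f.left) h3
      have h5 := Spec.map_injective ((cancel_mono γ).1 h4)
      ext d
      exact congrArg (fun f => f.hom d) h5
    exact (Nat.card_le_card_of_injective Φ hΦ).trans hcard
  · rw [Functor.map_comp, Category.assoc, hpb.w, ← Category.assoc, ← Functor.map_comp, hγ']

end K574.HensSp
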