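import Mathlib.RingTheory.ZariskisMainTheorem
import Mathlib.LinearAlgebra.FreeModule.Finite.Matrix
import Mathlib.RingTheory.Unramified.LocalStructure

/-!
# Uniform bounds for the number of geometric points in the fibres of a quasi-finite algebra
-/

set_option autoImplicit false
universe u

open scoped TensorProduct

namespace K574.HomBd

/-- the finite case -/
theorem exists_bound_finite (C E : Type u) [CommRing C] [CommRing E] [Algebra C E]
    [Module.Finite C E] :
    ∃ n : ℕ, ∀ (K : Type u) [Field K] [Algebra C K],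
      Finite (E →ₐ[C] K) ∧ Nat.card (E →ₐ[C] K) ≤ n := by
  obtain ⟨n, f, hf⟩ := Module.Finite.exists_fin' C E
  refine ⟨n, fun K _ _ => ?_⟩
  have h1 : Module.finrank K (K ⊗[C] E) ≤ n := by
    have h2 : Function.Surjective (f.baseChange K) := LinearMap.lTensor_surjective K hf
    have h3 := LinearMap.finrank_le_finrank_of_surjective (f := f.baseChange K) h2
    have h4 : Module.finrank K (K ⊗[C] (Fin n → C)) = n := by
      rw [(TensorProduct.piScalarRight C K K (Fin n)).finrank_eq, Module.finrank_pi,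
        Fintype.card_fin]
    rwa [h4] at h3
  let e : (E →ₐ[C] K) ≃ (K ⊗[C] E →ₐ[K] K) := Algebra.TensorProduct.liftEquivRight C K E K
  have h5 : Finite (K ⊗[C] E →ₐ[K] K) := inferInstance
  refine ⟨Finite.of_equiv _ e.symm, ?_⟩
  rw [Nat.card_congr e]
  exact (card_algHom_le_finrank K (K ⊗[C] E) K).trans h1

/-- homomorphisms not killing `r` are determined on a subalgebra containing a power multiple of
everything -/
theorem eq_of_eqOn {C E K : Type u} [CommRing C] [CommRing E] [Algebra C E] [Field K] [Algebra C K]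
    (S' : Subalgebra C E) (r : S')
    (h : Function.Bijective (Localization.awayMap S'.val.toRingHom r))
    (φ ψ : E →ₐ[C] K) (hφ : φ r ≠ 0) (he : φ.comp S'.val = ψ.comp S'.val) : φ = ψ := by
  ext x
  obtain ⟨y, hy⟩ := h.2 (algebraMap E (Localization.Away (r : E)) x)
  obtain ⟨⟨a, b⟩, hab⟩ := IsLocalization.surj (Submonoid.powers r) y
  obtain ⟨k, hk⟩ := b.2
  have h1 : algebraMap E (Localization.Away (r : E)) (x * (r : E) ^ k) =
      algebraMap E (Localization.Away (r : E)) (a : E) := by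
    have h2 := congrArg (Localization.awayMap S'.val.toRingHom r) hab
    rw [map_mul, hy] at h2
    have h3 : ∀ s : S', Localization.awayMap S'.val.toRingHom r
        (algebraMap S' (Localization.Away r) s) = algebraMap E (Localization.Away (r : E)) s :=
      fun s => IsLocalization.map_eq _ s
    rw [h3, h3] at h2
    rw [map_mul, ← h2]
    congr 2
    rw [← hk]
    simp
  obtain ⟨⟨c, hc⟩, hc'⟩ := (IsLocalization.eq_iff_exists (Submonoid.powers (r : E)) _).1 h1
  obtain ⟨m, rfl⟩ := hc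
  have h4 : ∀ s : S', φ s = ψ s := fun s => DFunLike.congr_fun he s
  have h5 : φ ((r : E) ^ m * (x * (r : E) ^ k)) = ψ ((r : E) ^ m * (x * (r : E) ^ k)) := by
    change (r : E) ^ m * _ = (r : E) ^ m * _ at hc'
    rw [hc']
    exact h4 (r ^ m * a)
  have h6 : φ (r : E) = ψ (r : E) := h4 r
  simp only [map_mul, map_pow, ← h6] at h5
  have h7 := mul_left_cancel₀ (pow_ne_zero m hφ) h5
  exact mul_right_cancel₀ (pow_ne_zero k hφ) h7

/-- the number of `K`-points of a quasi-finite algebra is bounded uniformly in `K` -/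
theorem exists_bound (C E : Type u) [CommRing C] [CommRing E] [Algebra C E]
    [Algebra.FiniteType C E] [Algebra.QuasiFinite C E] :
    ∃ n : ℕ, ∀ (K : Type u) [Field K] [Algebra C K],
      Finite (E →ₐ[C] K) ∧ Nat.card (E →ₐ[C] K) ≤ n := by
  classical
  have h1 : ∀ p : PrimeSpectrum E, ∃ S' : Subalgebra C E, S'.toSubmodule.FG ∧ ∃ r : S',
      r.1 ∉ p.asIdeal ∧ Function.Bijective (Localization.awayMap S'.val.toRingHom r) := fun p =>
    Algebra.QuasiFiniteAt.exists_fg_and_exists_notMem_and_awayMap_bijective p.asIdeal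
  choose S' hS' r hr hb using h1
  obtain ⟨t, ht⟩ := (isCompact_univ (X := PrimeSpectrum E)).elim_finite_subcover
    (fun p => (PrimeSpectrum.basicOpen (r p : E) : Set (PrimeSpectrum E)))
    (fun p => PrimeSpectrum.isOpen_basicOpen)
    (fun p _ => Set.mem_iUnion.2 ⟨p, hr p⟩)
  have hfin : ∀ p, Module.Finite C (S' p) := fun p => ⟨(Submodule.fg_top _).mpr (hS' p)⟩
  choose n hn using fun p => exists_bound_finite C (S' p)
  refine ⟨∑ p ∈ t, n p, fun K _ _ => ?_⟩
  have h2 : ∀ φ : E →ₐ[C] K, ∃ p : t, φ (r p) ≠ 0 := by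
    intro φ
    let q : PrimeSpectrum E := ⟨RingHom.ker φ, RingHom.ker_isPrime φ.toRingHom⟩
    have h3 := ht (Set.mem_univ q)
    simp only [Set.mem_iUnion] at h3
    obtain ⟨p, hp, hp'⟩ := h3
    exact ⟨⟨p, hp⟩, hp'⟩
  choose P hP using h2
  let Φ : (E →ₐ[C] K) → (Σ p : t, (S' p →ₐ[C] K)) := fun φ => ⟨P φ, φ.comp (S' (P φ)).val⟩
  have hΦ : Function.Injective Φ := by
    intro φ ψ h
    have h4 : P φ = P ψ := congrArg Sigma.fst h
    have h5 : φ.comp (S' (P φ)).val = ψ.comp (S' (P φ)).val := by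
      have h6 : ∀ p : t, (⟨P φ, φ.comp (S' (P φ)).val⟩ : Σ p : t, (S' p →ₐ[C] K)).1 = p →
          (⟨P φ, φ.comp (S' (P φ)).val⟩ : Σ p : t, (S' p →ₐ[C] K)) = ⟨p, φ.comp (S' p).val⟩ := by
        rintro p rfl
        rfl
      have h7 : (⟨P φ, φ.comp (S' (P φ)).val⟩ : Σ p : t, (S' p →ₐ[C] K)) =
          ⟨P φ, ψ.comp (S' (P φ)).val⟩ := by
        refine h.trans ?_
        change (⟨P ψ, ψ.comp (S' (P ψ)).val⟩ : Σ p : t, (S' p →ₐ[C] K)) = _
        rw [h4]
      exact eq_of_heq (Sigma.mk.inj h7).2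
    exact eq_of_eqOn (S' (P φ)) (r (P φ)) (hb (P φ)) φ ψ (hP φ) h5
  have hf : ∀ p : t, Finite (S' p →ₐ[C] K) := fun p => (hn p K).1
  refine ⟨Finite.of_injective Φ hΦ, (Nat.card_le_card_of_injective Φ hΦ).trans ?_⟩
  rw [Nat.card_sigma, ← Finset.sum_coe_sort t]
  exact Finset.sum_le_sum fun p _ => (hn p K).2

end K574.HomBd
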