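import Groth.Prelude.Def_W4c5algebraiztannakaNis
import Mathlib.AlgebraicGeometry.Limits
import Mathlib.AlgebraicGeometry.Morphisms.QuasiSeparated
import Mathlib.AlgebraicGeometry.Morphisms.FinitePresentation
import Mathlib.AlgebraicGeometry.PullbackCarrier
import Mathlib.AlgebraicGeometry.IdealSheaf.Subscheme

/-!
# Nisnevich covers of bounded length: basic operations
-/

set_option autoImplicit false
universe u
open CategoryTheory CategoryTheory.Limits AlgebraicGeometry Topology TopologicalSpace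
open W4c5algebraiztannaka

namespace K574.Nis

variable {U Y Y' X : Scheme.{u}}

/-- every locally closed subset is the range of an immersion -/
theorem exists_immersion_range_eq (W : Set X) (hW : IsLocallyClosed W) :
    ∃ (T : Scheme.{u}) (i : T ⟶ X), IsImmersion i ∧ Set.range i = W := by
  obtain ⟨O, Z, hO, hZ, rfl⟩ := hW
  let O' : X.Opens := ⟨O, hO⟩
  let Z' : Closeds O' := ⟨O'.ι ⁻¹' Z, hZ.preimage O'.ι.continuous⟩
  let I := Scheme.IdealSheafData.vanishingIdeal (X := (O' : Scheme.{u})) Z'
  refine ⟨I.subscheme, I.subschemeι ≫ O'.ι, inferInstance, ?_⟩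
  have h1 : Set.range (I.subschemeι ≫ O'.ι) = O'.ι '' (Set.range I.subschemeι) := by
    rw [← Set.range_comp]
    rfl
  rw [h1, Scheme.IdealSheafData.range_subschemeι]
  have h2 : (I.support : Set O') = O'.ι ⁻¹' Z :=
    Scheme.IdealSheafData.coe_support_vanishingIdeal (X := (O' : Scheme.{u})) Z'
  rw [h2, Set.image_preimage_eq_inter_range, Scheme.Opens.range_ι, Set.inter_comm]
  rfl

theorem HasSectOver.mono {f : U ⟶ Y} {W W' : Set Y} (h : HasSectOver f W)
    (hW' : IsLocallyClosed W') (hle : W' ⊆ W) : HasSectOver f W' := by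
  obtain ⟨T, g, s, hg, hr, hs⟩ := h
  obtain ⟨T', i, hi, hir⟩ := exists_immersion_range_eq (X := T) (g ⁻¹' W')
    (hW'.preimage g.continuous)
  refine ⟨T', i ≫ g, i ≫ s, inferInstance, ?_, by rw [Category.assoc, hs]⟩
  have h1 : Set.range (i ≫ g) = g '' (Set.range i) := by
    rw [← Set.range_comp]
    rfl
  have h2 : Set.range (fun t : T' => (i ≫ g) t) = g '' (Set.range i) := h1
  rw [h2, hir, Set.image_preimage_eq_inter_range]
  have h3 : Set.range g = W := hr
  rw [h3, Set.inter_eq_left]
  exact hle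

theorem hasSectOver_pullback_snd (f : U ⟶ Y) (g : Y' ⟶ Y) {W : Set Y} (h : HasSectOver f W) :
    HasSectOver (pullback.snd f g) (g ⁻¹' W) := by
  obtain ⟨T, i, s, hi, hr, hs⟩ := h
  refine ⟨pullback i g, pullback.snd i g,
    pullback.lift (pullback.fst i g ≫ s) (pullback.snd i g)
      (by rw [Category.assoc, hs, pullback.condition]), inferInstance, ?_, pullback.lift_snd _ _ _⟩
  have h1 : Set.range (pullback.snd i g) = g ⁻¹' (Set.range i) := Scheme.Pullback.range_snd i g
  have h2 : Set.range i = W := hr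
  rw [← h2]
  exact h1

/-- section of the composite over the image of the preimage -/
theorem hasSectOver_comp {Y₁ Y₂ Y₃ T : Scheme.{u}} (g₁ : Y₁ ⟶ Y₂) (g₂ : Y₂ ⟶ Y₃)
    (i : T ⟶ Y₃) [IsImmersion i] (s : T ⟶ Y₂) (hs : s ≫ g₂ = i) {W : Set Y₂}
    (h : HasSectOver g₁ W) : HasSectOver (g₁ ≫ g₂) (i '' (s ⁻¹' W)) := by
  obtain ⟨T', i', s', hi', hr', hs'⟩ := h
  refine ⟨pullback i' s, pullback.snd i' s ≫ i, pullback.fst i' s ≫ s', inferInstance, ?_, ?_⟩
  · have h1 : Set.range (pullback.snd i' s) = s ⁻¹' (Set.range i') := Scheme.Pullback.range_snd i' s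
    have h2 : Set.range (pullback.snd i' s ≫ i) = i '' (Set.range (pullback.snd i' s)) := by
      rw [← Set.range_comp]
      rfl
    have h3 : Set.range i' = W := hr'
    rw [← h3, ← h1]
    exact h2
  · rw [Category.assoc, ← Category.assoc s', hs', ← Category.assoc, pullback.condition,
      Category.assoc, hs]

/-- A chain of length `m` from `A` to `B` of closed constructible subsets with sections of `f` over
the successive differences. -/
def NisRel (f : U ⟶ Y) : ℕ → Set Y → Set Y → Prop
  | 0, A, B => A = B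
  | m + 1, A, B => ∃ C, NisRel f m A C ∧ C ⊆ B ∧ IsClosed B ∧ IsConstructible B ∧
      HasSectOver f (B \ C)

theorem NisRel.trans {f : U ⟶ Y} {m n : ℕ} {A B C : Set Y} (h : NisRel f m A B)
    (h' : NisRel f n B C) : NisRel f (m + n) A C := by
  induction n generalizing C with
  | zero =>
    have : B = C := h'
    subst this
    exact h
  | succ n ih =>
    obtain ⟨D, hD, hDC, h1, h2, h3⟩ := h'
    exact ⟨D, ih hD, hDC, h1, h2, h3⟩

theorem nisRel_empty_univ_of_isNisCoverLen {f : U ⟶ Y} {m : ℕ} (h : IsNisCoverLen f m) :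
    NisRel f m ∅ Set.univ := by
  obtain ⟨Z, h0, hm, hmono, hc, hs⟩ := h.flag
  have key : ∀ (k : ℕ) (hk : k < m + 1), NisRel f k ∅ (Z ⟨k, hk⟩) := by
    intro k
    induction k with
    | zero => intro hk; exact h0.symm
    | succ k ih =>
      intro hk
      have hk' : k < m := Nat.lt_of_succ_lt_succ hk
      refine ⟨Z ⟨k, hk'.trans (Nat.lt_succ_self m)⟩, ih _, hmono ?_, (hc _).1, (hc _).2,
        hs ⟨k, hk'⟩⟩
      exact Fin.mk_le_mk.mpr (Nat.le_succ k)
  have := key m (Nat.lt_succ_self m)
  have h2 : Z ⟨m, Nat.lt_succ_self m⟩ = Set.univ := hm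
  rwa [h2] at this

theorem NisRel.exists_nat_flag {f : U ⟶ Y} {m : ℕ} {A B : Set Y} (hA : IsClosed A)
    (hA' : IsConstructible A) (h : NisRel f m A B) :
    ∃ Z : ℕ → Set Y, Z 0 = A ∧ Z m = B ∧ Monotone Z ∧ (∀ k, IsClosed (Z k) ∧ IsConstructible (Z k)) ∧
      (∀ k < m, HasSectOver f (Z (k + 1) \ Z k)) ∧ ∀ k, m ≤ k → Z k = B := by
  induction m generalizing B with
  | zero =>
    have hAB : A = B := h
    subst hAB
    exact ⟨fun _ => A, rfl, rfl, fun _ _ _ => le_rfl, fun _ => ⟨hA, hA'⟩,
      fun k hk => absurd hk (Nat.not_lt_zero k), fun _ _ => rfl⟩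
  | succ m ih =>
    obtain ⟨C, hC, hCB, h1, h2, h3⟩ := h
    obtain ⟨Z, z0, zm, zmono, zc, zs, ze⟩ := ih hC
    refine ⟨fun k => if k ≤ m then Z k else B, ?_, ?_, ?_, ?_, ?_, ?_⟩
    · simp [z0]
    · simp
    · intro k l hkl
      by_cases hl : l ≤ m
      · simp only [hl, hkl.trans hl, if_true]
        exact zmono hkl
      · by_cases hk : k ≤ m
        · simp only [hl, hk, if_true, if_false]
          refine le_trans (zmono hk) ?_
          rw [zm]
          exact hCB
        · simp only [hl, hk, if_false]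
          exact le_rfl
    · intro k
      by_cases hk : k ≤ m
      · simp only [hk, if_true]
        exact zc k
      · simp only [hk, if_false]
        exact ⟨h1, h2⟩
    · intro k hk
      by_cases hk' : k + 1 ≤ m
      · have hk'' : k ≤ m := (Nat.le_succ k).trans hk'
        simp only [hk', hk'', if_true]
        exact zs k hk'
      · have hkm : k = m := by omega
        subst hkm
        simp only [hk', if_false, le_refl, if_true]
        rw [zm]
        exact h3
    · intro k hk
      have : ¬ k ≤ m := by omega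
      simp [this]

theorem isNisCoverLen_of_nisRel {f : U ⟶ Y} {m : ℕ} (hf : Etale f)
    (h : NisRel f m ∅ Set.univ) : IsNisCoverLen f m := by
  obtain ⟨Z, z0, zm, zmono, zc, zs, ze⟩ := h.exists_nat_flag isClosed_empty .empty
  refine ⟨hf, fun k => Z k, z0, zm, fun a b hab => zmono hab, fun k => zc k, fun k => zs k k.2⟩

theorem isNisCoverLen_iff {f : U ⟶ Y} {m : ℕ} :
    IsNisCoverLen f m ↔ Etale f ∧ NisRel f m ∅ Set.univ :=
  ⟨fun h => ⟨h.etale, nisRel_empty_univ_of_isNisCoverLen h⟩, fun h => isNisCoverLen_of_nisRel h.1 h.2⟩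

end K574.Nis
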