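import Groth.Agent.Algz.K574.Nis
import Mathlib.AlgebraicGeometry.Morphisms.Etale

/-!
# Nisnevich covers of bounded length: base change, composition, Zariski covers
-/

set_option autoImplicit false
universe u
open CategoryTheory CategoryTheory.Limits AlgebraicGeometry Topology TopologicalSpace
open W4c5algebraiztannaka

namespace K574.Nis

variable {U Y Y' X : Scheme.{u}}

theorem NisRel.pullback {f : U ⟶ Y} (g : Y' ⟶ Y) {m : ℕ} {A B : Set Y} (h : NisRel f m A B) :
    NisRel (pullback.snd f g) m (g ⁻¹' A) (g ⁻¹' B) := by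
  induction m generalizing B with
  | zero =>
    have : A = B := h
    subst this
    rfl
  | succ m ih =>
    obtain ⟨C, hC, hCB, h1, h2, h3⟩ := h
    exact ⟨g ⁻¹' C, ih hC, Set.preimage_mono hCB, h1.preimage g.continuous,
      g.isConstructible_preimage h2, hasSectOver_pullback_snd f g h3⟩

theorem isNisCoverLen_pullback_snd (f : U ⟶ Y) (g : Y' ⟶ Y) (m : ℕ) (hf : IsNisCoverLen f m) :
    IsNisCoverLen (pullback.snd f g) m := by
  have := hf.etale
  exact isNisCoverLen_of_nisRel inferInstance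
    (hf |> nisRel_empty_univ_of_isNisCoverLen |>.pullback g)

theorem isCompact_of_isConstructible {X : Type*} [TopologicalSpace X] [CompactSpace X] {s : Set X}
    (hs : IsConstructible s) : IsCompact s := by
  induction s, hs using BooleanSubalgebra.closure_sdiff_sup_induction with
  | isSublattice =>
    exact ⟨fun s hs t ht ↦ ⟨hs.1.union ht.1, hs.2.union ht.2⟩,
      fun s hs t ht ↦ ⟨hs.1.inter ht.1, hs.2.inter_isOpen ht.2 ht.1⟩⟩
  | bot_mem => exact ⟨isOpen_empty, .empty⟩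
  | top_mem => exact ⟨isOpen_univ, .univ⟩
  | sdiff U hU V hV => exact hU.2.isCompact.diff hV.1
  | sup s _ t _ hs' ht' => exact hs'.union ht'

/-- A closed subset of a quasi-separated scheme is constructible when its complement is compact. -/
theorem isConstructible_of_isClosed_of_isCompact_compl [QuasiSeparatedSpace Y] {A : Set Y}
    (hA : IsClosed A) (hA' : IsCompact Aᶜ) : IsConstructible A := by
  rw [← isConstructible_compl]
  exact hA'.isConstructible hA.isOpen_compl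

theorem image_props {Y₂ Y₃ T : Scheme.{u}}
    [CompactSpace Y₂] [QuasiSeparatedSpace Y₂] [CompactSpace Y₃] [QuasiSeparatedSpace Y₃]
    {Z Z' : Set Y₃} (hZ : IsClosed Z) (hZc : IsConstructible Z) (hZ' : IsClosed Z')
    (hZc' : IsConstructible Z') (hZZ : Z ⊆ Z') (i : T ⟶ Y₃) [IsImmersion i]
    (hi : Set.range i = Z' \ Z) (s : T ⟶ Y₂) {C : Set Y₂} (hC : IsClosed C)
    (hCc : IsConstructible C) :
    IsClosed (Z ∪ i '' (s ⁻¹' C)) ∧ IsConstructible (Z ∪ i '' (s ⁻¹' C)) := by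
  have hemb : IsEmbedding i := i.isEmbedding
  have hcl : IsClosed (Z ∪ i '' (s ⁻¹' C)) := by
    obtain ⟨F, hF, hF'⟩ := hemb.isClosed_iff.mp (hC.preimage s.continuous)
    have h1 : i '' (s ⁻¹' C) = (Z' \ Z) ∩ F := by
      rw [← hF', Set.image_preimage_eq_inter_range, hi, Set.inter_comm]
    have h2 : Z ∪ i '' (s ⁻¹' C) = Z' ∩ (Z ∪ F) := by
      rw [h1]
      ext x
      simp only [Set.mem_union, Set.mem_inter_iff, Set.mem_sdiff]
      constructor
      · rintro (h | ⟨⟨h, -⟩, h'⟩)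
        · exact ⟨hZZ h, Or.inl h⟩
        · exact ⟨h, Or.inr h'⟩
      · rintro ⟨h, h' | h'⟩
        · exact Or.inl h'
        · by_cases hx : x ∈ Z
          · exact Or.inl hx
          · exact Or.inr ⟨⟨h, hx⟩, h'⟩
    rw [h2]
    exact hZ'.inter (hZ.union hF)
  refine ⟨hcl, isConstructible_of_isClosed_of_isCompact_compl hcl ?_⟩
  have hTc : CompactSpace T := by
    have h1 : IsCompact (Set.range i) := by
      rw [hi]
      exact isCompact_of_isConstructible (hZc'.sdiff hZc)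
    rw [← Set.image_univ, ← hemb.isCompact_iff] at h1
    exact ⟨h1⟩
  have hsqc : QuasiCompact s := by
    rw [quasiCompact_iff_compactSpace]
    exact hTc
  have h3 : (Z ∪ i '' (s ⁻¹' C))ᶜ = Z'ᶜ ∪ i '' (s ⁻¹' Cᶜ) := by
    have h4 : i '' (s ⁻¹' Cᶜ) = (Z' \ Z) \ (i '' (s ⁻¹' C)) := by
      rw [← hi, ← Set.image_univ, ← Set.image_sdiff hemb.injective, Set.preimage_compl,
        Set.compl_eq_univ_sdiff]
    rw [h4]
    ext x
    simp only [Set.mem_compl_iff, Set.mem_union, Set.mem_sdiff, not_or]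
    constructor
    · rintro ⟨h, h'⟩
      by_cases hx : x ∈ Z'
      · exact Or.inr ⟨⟨hx, h⟩, h'⟩
      · exact Or.inl hx
    · rintro (h | ⟨⟨-, h⟩, h'⟩)
      · refine ⟨fun hx => h (hZZ hx), fun hx => h ?_⟩
        have : x ∈ Set.range i := Set.image_subset_range _ _ hx
        rw [hi] at this
        exact this.1
      · exact ⟨h, h'⟩
  rw [h3]
  refine (isCompact_of_isConstructible hZc'.compl).union ?_
  have h5 : IsCompact (s ⁻¹' Cᶜ) :=
    s.isCompact_preimage (U := ⟨Cᶜ, hC.isOpen_compl⟩) (isCompact_of_isConstructible hCc.compl)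
  exact h5.image i.continuous

theorem nisRel_comp_step {Y₁ Y₂ Y₃ : Scheme.{u}} (g₁ : Y₁ ⟶ Y₂) (g₂ : Y₂ ⟶ Y₃)
    [CompactSpace Y₂] [QuasiSeparatedSpace Y₂] [CompactSpace Y₃] [QuasiSeparatedSpace Y₃]
    {Z Z' : Set Y₃} (hZ : IsClosed Z) (hZc : IsConstructible Z) (hZ' : IsClosed Z')
    (hZc' : IsConstructible Z') (hZZ : Z ⊆ Z') (hs : HasSectOver g₂ (Z' \ Z)) {m : ℕ}
    (h : NisRel g₁ m ∅ Set.univ) : NisRel (g₁ ≫ g₂) m Z Z' := by
  obtain ⟨T, i, s, hi, hr, hsi⟩ := hs
  have hr : Set.range i = Z' \ Z := hr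
  have key : ∀ {A : Set Y₂}, NisRel g₁ m ∅ A → NisRel (g₁ ≫ g₂) m Z (Z ∪ i '' (s ⁻¹' A)) := by
    clear h
    induction m with
    | zero =>
      intro A hA
      have : ∅ = A := hA
      subst this
      change Z = _
      simp
    | succ m ih =>
      rintro A ⟨C, hC, hCA, h1, h2, h3⟩
      refine ⟨_, ih hC, Set.union_subset_union_right _ (Set.image_mono (Set.preimage_mono hCA)),
        (image_props hZ hZc hZ' hZc' hZZ i hr s h1 h2).1,
        (image_props hZ hZc hZ' hZc' hZZ i hr s h1 h2).2, ?_⟩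
      have h4 := hasSectOver_comp g₁ g₂ i s hsi h3
      have h5 : (Z ∪ i '' (s ⁻¹' A)) \ (Z ∪ i '' (s ⁻¹' C)) = i '' (s ⁻¹' (A \ C)) := by
        rw [Set.preimage_sdiff, Set.image_sdiff i.isEmbedding.injective]
        ext x
        simp only [Set.mem_union, Set.mem_sdiff, not_or]
        constructor
        · rintro ⟨h | h, h', h''⟩
          · exact absurd h h'
          · exact ⟨h, h''⟩
        · rintro ⟨h, h'⟩
          have : x ∈ Set.range i := Set.image_subset_range _ _ h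
          rw [hr] at this
          exact ⟨Or.inr h, this.2, h'⟩
      rw [h5]
      exact h4
  have h6 := key h
  have h7 : Z ∪ i '' (s ⁻¹' Set.univ) = Z' := by
    rw [Set.preimage_univ, Set.image_univ, hr, Set.union_sdiff_cancel hZZ]
  rwa [h7] at h6

theorem nisRel_comp {Y₁ Y₂ Y₃ : Scheme.{u}} (g₁ : Y₁ ⟶ Y₂) (g₂ : Y₂ ⟶ Y₃)
    [CompactSpace Y₂] [QuasiSeparatedSpace Y₂] [CompactSpace Y₃] [QuasiSeparatedSpace Y₃]
    {m₁ m₂ : ℕ} {A B : Set Y₃} (hA : IsClosed A) (hAc : IsConstructible A)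
    (h₁ : NisRel g₁ m₁ ∅ Set.univ) (h₂ : NisRel g₂ m₂ A B) :
    NisRel (g₁ ≫ g₂) (m₁ * m₂) A B ∧ IsClosed B ∧ IsConstructible B := by
  induction m₂ generalizing B with
  | zero =>
    have : A = B := h₂
    subst this
    exact ⟨rfl, hA, hAc⟩
  | succ m₂ ih =>
    obtain ⟨C, hC, hCB, h1, h2, h3⟩ := h₂
    obtain ⟨h4, h5, h6⟩ := ih hC
    refine ⟨?_, h1, h2⟩
    rw [Nat.mul_succ]
    exact h4.trans (nisRel_comp_step g₁ g₂ h5 h6 h1 h2 hCB h3 h₁)

theorem isNisCoverLen_comp {Y₁ Y₂ Y₃ : Scheme.{u}} (g₁ : Y₁ ⟶ Y₂) (g₂ : Y₂ ⟶ Y₃)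
    [CompactSpace Y₂] [QuasiSeparatedSpace Y₂] [CompactSpace Y₃] [QuasiSeparatedSpace Y₃]
    (m₁ m₂ : ℕ) (h₁ : IsNisCoverLen g₁ m₁) (h₂ : IsNisCoverLen g₂ m₂) :
    IsNisCoverLen (g₁ ≫ g₂) (m₁ * m₂) := by
  have := h₁.etale
  have := h₂.etale
  exact isNisCoverLen_of_nisRel inferInstance
    (nisRel_comp g₁ g₂ isClosed_empty .empty (nisRel_empty_univ_of_isNisCoverLen h₁)
      (nisRel_empty_univ_of_isNisCoverLen h₂)).1

theorem hasSectOver_opens {f : U ⟶ Y} (V : Y.Opens) (s : (V : Scheme.{u}) ⟶ U) (hs : s ≫ f = V.ι) :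
    HasSectOver f (V : Set Y) :=
  ⟨V, V.ι, s, inferInstance, V.range_ι, hs⟩

theorem isNisCoverLen_sigma_desc [CompactSpace U] [QuasiSeparatedSpace U]
    (k : ℕ) (V : Fin k → U.Opens) (hV : ∀ i, IsCompact (V i : Set U)) (hcov : ⨆ i, V i = ⊤) :
    IsNisCoverLen
      (Limits.Sigma.desc (fun i => (V i).ι) : (∐ fun i => ((V i : U.Opens) : Scheme.{u})) ⟶ U) k := by
  have hP : IsZariskiLocalAtSource @AlgebraicGeometry.Etale.{u} :=
    HasRingHomProperty.instIsZariskiLocalAtSource (P := @AlgebraicGeometry.Etale.{u})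
  refine isNisCoverLen_of_nisRel
    (IsZariskiLocalAtSource.sigmaDesc (P := @Etale.{u}) fun i => inferInstance) ?_
  set f := (Limits.Sigma.desc (fun i => (V i).ι) : (∐ fun i => ((V i : U.Opens) : Scheme.{u})) ⟶ U)
  have hs : ∀ i, HasSectOver f (V i : Set U) := fun i =>
    hasSectOver_opens (V i) (Sigma.ι (fun i => ((V i : U.Opens) : Scheme.{u})) i)
      (Sigma.ι_desc _ _)
  let Z : ℕ → Set U := fun j => (⋃ i : Fin k, ⋃ (_ : j ≤ i.val), (V i : Set U))ᶜ
  have hopen : ∀ j, IsOpen (⋃ i : Fin k, ⋃ (_ : j ≤ i.val), (V i : Set U)) := fun j =>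
    isOpen_iUnion fun i => isOpen_iUnion fun _ => (V i).2
  have hcomp : ∀ j, IsCompact (⋃ i : Fin k, ⋃ (_ : j ≤ i.val), (V i : Set U)) := fun j =>
    isCompact_iUnion fun i => isCompact_iUnion fun _ => hV i
  have key : ∀ j, j ≤ k → NisRel f j ∅ (Z j) := by
    intro j
    induction j with
    | zero =>
      intro _
      change ∅ = _
      symm
      rw [Set.compl_empty_iff, Set.eq_univ_iff_forall]
      intro x
      have hx : x ∈ (⨆ i, V i : U.Opens) := by rw [hcov]; trivial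
      obtain ⟨i, hi⟩ := Opens.mem_iSup.mp hx
      exact Set.mem_iUnion.mpr ⟨i, Set.mem_iUnion.mpr ⟨Nat.zero_le _, hi⟩⟩
    | succ j ih =>
      intro hj
      refine ⟨Z j, ih (Nat.le_of_succ_le hj), ?_, (hopen _).isClosed_compl,
        isConstructible_of_isClosed_of_isCompact_compl (hopen _).isClosed_compl
          (by rw [compl_compl]; exact hcomp _), ?_⟩
      · refine Set.compl_subset_compl.mpr fun x hx => ?_
        obtain ⟨i, hi⟩ := Set.mem_iUnion.mp hx
        obtain ⟨hi', hi''⟩ := Set.mem_iUnion.mp hi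
        exact Set.mem_iUnion.mpr ⟨i, Set.mem_iUnion.mpr ⟨(Nat.le_succ j).trans hi', hi''⟩⟩
      · have hlc : IsLocallyClosed (Z (j + 1) \ Z j) := by
          rw [Set.sdiff_eq, compl_compl]
          exact (hopen _).isClosed_compl.isLocallyClosed.inter (hopen _).isLocallyClosed
        refine HasSectOver.mono (hs ⟨j, hj⟩) hlc fun x hx => ?_
        have h1 := hx.2
        rw [Set.mem_compl_iff, not_not] at h1
        obtain ⟨i, hi⟩ := Set.mem_iUnion.mp h1
        obtain ⟨hi', hi''⟩ := Set.mem_iUnion.mp hi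
        rcases Nat.eq_or_lt_of_le hi' with h | h
        · have : i = ⟨j, hj⟩ := Fin.ext h.symm
          rw [this] at hi''
          exact hi''
        · exact absurd (Set.mem_iUnion.mpr ⟨i, Set.mem_iUnion.mpr ⟨h, hi''⟩⟩) hx.1
  have h1 := key k le_rfl
  have h2 : Z k = Set.univ := by
    rw [Set.compl_univ_iff, Set.eq_empty_iff_forall_notMem]
    intro x hx
    obtain ⟨i, hi⟩ := Set.mem_iUnion.mp hx
    obtain ⟨hi', -⟩ := Set.mem_iUnion.mp hi
    exact absurd i.2 (not_lt.mpr hi')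
  rwa [h2] at h1

end K574.Nis
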