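import Groth.Agent.Algz.K574.GenLoc
import Groth.Agent.Algz.K574.NisOps
import Groth.Agent.PerfC.PullRestrict
import Groth.Agent.Ega1.TildePullback
import Mathlib.RingTheory.Nakayama
import Mathlib.LinearAlgebra.TensorProduct.Quotient
import Mathlib.AlgebraicGeometry.Morphisms.ClosedImmersion

/-!
# Generators of a module from generators on a Nisnevich cover of bounded length
-/

set_option autoImplicit false
universe u
open CategoryTheory CategoryTheory.Limits AlgebraicGeometry Opposite TopologicalSpace Topology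
open scoped TensorProduct
open W4c5algebraiztannaka

namespace K574.NisGen

open K574.Nis K574.GenLoc

/-- If `f^* M~` is generated by `n` sections and `s` is a section of `f` over `Spec A`, then `A ⊗ M` is
generated by `n` elements. -/
theorem exists_generators_tensor {A' A : Type u} [CommRing A'] [CommRing A] [Algebra A' A]
    {M : Type u} [AddCommGroup M] [Module A' M] {U : Scheme.{u}} (f : U ⟶ Spec (.of A'))
    (s : Spec (.of A) ⟶ U) (hs : s ≫ f = Spec.map (CommRingCat.ofHom (algebraMap A' A))) {n : ℕ}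
    (φ : FlatMod.freeMod U n ⟶
      (Scheme.Modules.pullback f).obj (tilde (ModuleCat.of A' M))) [Epi φ] :
    ∃ t : Fin n → A ⊗[A'] M, Submodule.span A (Set.range t) = ⊤ := by
  let e : (Scheme.Modules.pullback s).obj
      ((Scheme.Modules.pullback f).obj (tilde (ModuleCat.of A' M))) ≅
        tilde (ModuleCat.of A (A ⊗[A'] M)) :=
    (Scheme.Modules.pullbackComp s f).app _ ≪≫ (Scheme.Modules.pullbackCongr hs).app _ ≪≫
      Groth.Agent.Ega1.TildePullback.pullbackTildeIso A' A M
  let ψ : FlatMod.freeMod (Spec (.of A)) n ⟶ tilde (ModuleCat.of A (A ⊗[A'] M)) :=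
    (Groth.Agent.PerfC.PullRestrict.pullbackFreeMod s n).inv ≫
      (Scheme.Modules.pullback s).map φ ≫ e.hom
  have hψ : Epi ψ := by
    have : Epi ((Scheme.Modules.pullback s).map φ) := inferInstance
    exact epi_comp _ _
  have h1 := exists_span_of_epi ψ (isAffineOpen_top _)
  have hV : (⊤ : (Spec (.of A)).Opens) = PrimeSpectrum.basicOpen (1 : A) := by
    rw [PrimeSpectrum.basicOpen_one]; rfl
  obtain ⟨t, ht⟩ := exists_local_generators (R := .of A) (ModuleCat.of A (A ⊗[A'] M)) 1 hV h1
  refine ⟨t, eq_top_iff.mpr fun y _ => ?_⟩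
  obtain ⟨N, hN⟩ := ht y
  rwa [one_pow, one_smul] at hN

/-- base change of generation -/
theorem exists_epi_baseChange {A' A : Type u} [CommRing A'] [CommRing A] [Algebra A' A]
    {M : Type u} [AddCommGroup M] [Module A' M] {U : Scheme.{u}} (f : U ⟶ Spec (.of A')) {n : ℕ}
    (h : ∃ φ : FlatMod.freeMod U n ⟶
      (Scheme.Modules.pullback f).obj (tilde (ModuleCat.of A' M)), Epi φ) :
    ∃ ψ : FlatMod.freeMod (pullback f (Spec.map (CommRingCat.ofHom (algebraMap A' A)))) n ⟶
      (Scheme.Modules.pullback (pullback.snd f (Spec.map (CommRingCat.ofHom (algebraMap A' A))))).obj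
        (tilde (ModuleCat.of A (A ⊗[A'] M))), Epi ψ := by
  obtain ⟨φ, hφ⟩ := h
  let g : Spec (.of A) ⟶ Spec (.of A') := Spec.map (CommRingCat.ofHom (algebraMap A' A))
  let e : (Scheme.Modules.pullback (pullback.fst f g)).obj
      ((Scheme.Modules.pullback f).obj (tilde (ModuleCat.of A' M))) ≅
        (Scheme.Modules.pullback (pullback.snd f g)).obj (tilde (ModuleCat.of A (A ⊗[A'] M))) :=
    (Scheme.Modules.pullbackComp (pullback.fst f g) f).app _ ≪≫
      (Scheme.Modules.pullbackCongr pullback.condition).app _ ≪≫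
      ((Scheme.Modules.pullbackComp (pullback.snd f g) g).app _).symm ≪≫
      (Scheme.Modules.pullback (pullback.snd f g)).mapIso
        (Groth.Agent.Ega1.TildePullback.pullbackTildeIso A' A M)
  refine ⟨(Groth.Agent.PerfC.PullRestrict.pullbackFreeMod (pullback.fst f g) n).inv ≫
      (Scheme.Modules.pullback (pullback.fst f g)).map φ ≫ e.hom, ?_⟩
  have : Epi ((Scheme.Modules.pullback (pullback.fst f g)).map φ) := inferInstance
  exact epi_comp _ _

theorem epi_tilde_map {R : CommRingCat.{u}} {M N : ModuleCat.{u} R} (q : M ⟶ N) [Epi q] :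
    Epi ((tilde.functor R).map q) := inferInstance

theorem epi_pullback_map {X Y : Scheme.{u}} (f : X ⟶ Y) {M N : Y.Modules} (q : M ⟶ N)
    (_ : Epi q) : Epi ((Scheme.Modules.pullback f).map q) := inferInstance

/-- generation passes to quotients -/
theorem exists_epi_of_surjective {A' : Type u} [CommRing A']
    {M M' : Type u} [AddCommGroup M] [Module A' M] [AddCommGroup M'] [Module A' M']
    (q : M →ₗ[A'] M') (hq : Function.Surjective q)
    {U : Scheme.{u}} (f : U ⟶ Spec (.of A')) {n : ℕ}
    (h : ∃ φ : FlatMod.freeMod U n ⟶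
      (Scheme.Modules.pullback f).obj (tilde (ModuleCat.of A' M)), Epi φ) :
    ∃ φ : FlatMod.freeMod U n ⟶
      (Scheme.Modules.pullback f).obj (tilde (ModuleCat.of A' M')), Epi φ := by
  obtain ⟨φ, hφ⟩ := h
  let q' : ModuleCat.of (CommRingCat.of A') M ⟶ ModuleCat.of (CommRingCat.of A') M' :=
    ModuleCat.ofHom q
  have h1 : Epi q' := (ModuleCat.epi_iff_surjective _).mpr hq
  have h2 : Epi ((tilde.functor (.of A')).map q') := epi_tilde_map q'
  have h3 : Epi ((Scheme.Modules.pullback f).map ((tilde.functor (.of A')).map q')) :=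
    epi_pullback_map f _ h2
  exact ⟨φ ≫ (Scheme.Modules.pullback f).map ((tilde.functor (.of A')).map q'),
    @epi_comp _ _ _ _ _ _ hφ _ h3⟩

theorem NisRel.exists_first {U Y : Scheme.{u}} {f : U ⟶ Y} {m : ℕ} {A B : Set Y}
    (h : NisRel f (m + 1) A B) : ∃ C, A ⊆ C ∧ IsClosed C ∧ IsConstructible C ∧
      HasSectOver f (C \ A) ∧ NisRel f m C B := by
  induction m generalizing B with
  | zero =>
    obtain ⟨C, hC, hCB, h1, h2, h3⟩ := h
    have : A = C := hC
    subst this
    exact ⟨B, hCB, h1, h2, h3, rfl⟩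
  | succ m ih =>
    obtain ⟨C, hC, hCB, h1, h2, h3⟩ := h
    obtain ⟨D, hD, hD1, hD2, hD3, hD4⟩ := ih hC
    exact ⟨D, hD, hD1, hD2, hD3, C, hD4, hCB, h1, h2, h3⟩

theorem mem_comap_asIdeal {R S : Type*} [CommRing R] [CommRing S] (φ : R →+* S)
    (x : PrimeSpectrum S) {a : R} (ha : φ a = 0) : a ∈ (PrimeSpectrum.comap φ x).asIdeal := by
  rw [PrimeSpectrum.comap_asIdeal, Ideal.mem_comap, ha]
  exact Submodule.zero_mem _

theorem mk_one_surjective {R : Type*} [CommRing R] (K : Ideal R) (M : Type*) [AddCommGroup M]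
    [Module R M] : Function.Surjective (TensorProduct.mk R (R ⧸ K) M 1) := by
  intro y
  induction y using TensorProduct.induction_on with
  | zero => exact ⟨0, map_zero _⟩
  | tmul a x =>
    obtain ⟨r, rfl⟩ := Ideal.Quotient.mk_surjective a
    refine ⟨r • x, ?_⟩
    rw [TensorProduct.mk_apply, TensorProduct.tmul_smul, TensorProduct.smul_tmul',
      Algebra.smul_def, mul_one]
    rfl
  | add x y hx hy =>
    obtain ⟨a, ha⟩ := hx
    obtain ⟨b, hb⟩ := hy
    exact ⟨a + b, by rw [map_add, ha, hb]⟩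

/-- The main induction. -/
theorem exists_generators_of_nisRel (N m : ℕ) : ∀ (R : Type u) [CommRing R] (M : Type u)
    [AddCommGroup M] [Module R M] [Module.Finite R M] {U : Scheme.{u}} (f : U ⟶ Spec (.of R))
    (_ : NisRel f m ∅ Set.univ)
    (_ : ∃ φ : FlatMod.freeMod U N ⟶
      (Scheme.Modules.pullback f).obj (tilde (ModuleCat.of R M)), Epi φ),
    ∃ s : Fin (N * m) → M, Submodule.span R (Set.range s) = ⊤ := by
  induction m with
  | zero =>
    intro R _ M _ _ _ U f hf hgen
    have h1 : (∅ : Set (Spec (.of R))) = Set.univ := hf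
    have h2 : IsEmpty (PrimeSpectrum R) := by
      constructor
      intro p
      have : (p : Spec (.of R)) ∈ (Set.univ : Set (Spec (.of R))) := trivial
      rw [← h1] at this
      exact this
    have h3 : Subsingleton R := by
      by_contra h
      rw [not_subsingleton_iff_nontrivial] at h
      exact h2.elim (Classical.arbitrary _)
    have h4 : Subsingleton M := Module.subsingleton R M
    exact ⟨fun _ => 0, Subsingleton.elim _ _⟩
  | succ m ih =>
    intro R _ M _ _ _ U f hf hgen
    obtain ⟨C, -, hC1, hC2, hC3, hC4⟩ := NisRel.exists_first hf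
    obtain ⟨T, i, s, hi, hir, hs⟩ := hC3
    have hir' : Set.range i = C := by
      have : Set.range i = C \ ∅ := hir
      rwa [Set.sdiff_empty] at this
    have hcl : IsClosedImmersion i := .of_isPreimmersion i (by rw [hir']; exact hC1)
    obtain ⟨K, e, he⟩ := IsClosedImmersion.Spec_iff.mp hcl
    -- generators of `M / K M`
    obtain ⟨φ, hφ⟩ := hgen
    obtain ⟨t', ht'⟩ := exists_generators_tensor (A := R ⧸ K) (M := M) f (e.inv ≫ s)
      (by rw [Category.assoc, hs, he, Iso.inv_hom_id_assoc]) φ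
    choose t ht using fun k => mk_one_surjective K M (t' k)
    let M' : Submodule R M := Submodule.span R (Set.range t)
    have hM' : M' ⊔ K • ⊤ = ⊤ := by
      rw [eq_top_iff]
      intro y _
      have h1 : (1 : R ⧸ K) ⊗ₜ[R] y ∈ Submodule.span (R ⧸ K) (Set.range t') := by
        rw [ht']; trivial
      obtain ⟨c, hc⟩ := (Submodule.mem_span_range_iff_exists_fun _).mp h1
      choose r hr using fun k => Ideal.Quotient.mk_surjective (c k)
      have h2 : (1 : R ⧸ K) ⊗ₜ[R] (y - ∑ k, r k • t k) = 0 := by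
        rw [TensorProduct.tmul_sub, TensorProduct.tmul_sum, ← hc, sub_eq_zero]
        refine Finset.sum_congr rfl fun k _ => ?_
        rw [← hr, ← ht, TensorProduct.mk_apply, TensorProduct.tmul_smul]
        rfl
      have h3 : y - ∑ k, r k • t k ∈ (K • ⊤ : Submodule R M) := by
        have h4 := TensorProduct.quotTensorEquivQuotSMul_mk_one_tmul (M := M) K
          (y - ∑ k, r k • t k)
        rw [h2, map_zero] at h4
        exact (Submodule.Quotient.mk_eq_zero _).mp h4.symm
      have h5 : y = (∑ k, r k • t k) + (y - ∑ k, r k • t k) := by abel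
      rw [h5]
      exact Submodule.add_mem_sup (Submodule.sum_mem _ fun k _ =>
        Submodule.smul_mem _ _ (Submodule.subset_span ⟨k, rfl⟩)) h3
    have hM'' : (⊤ : Submodule R (M ⧸ M')) ≤ K • ⊤ := by
      intro y _
      obtain ⟨x, rfl⟩ := Submodule.Quotient.mk_surjective _ y
      have hx : x ∈ M' ⊔ K • ⊤ := by rw [hM']; trivial
      obtain ⟨a, ha, b, hb, rfl⟩ := Submodule.mem_sup.mp hx
      have h6 : (Submodule.Quotient.mk (a + b) : M ⧸ M') = M'.mkQ b := by
        rw [Submodule.Quotient.mk_add, (Submodule.Quotient.mk_eq_zero _).mpr ha, zero_add]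
        rfl
      rw [h6]
      have h7 := Submodule.mem_map_of_mem (f := M'.mkQ) hb
      rw [Submodule.map_smul''] at h7
      exact Submodule.smul_mono le_rfl le_top h7
    obtain ⟨r, hr1, hr2⟩ := Submodule.exists_sub_one_mem_and_smul_eq_zero_of_fg_of_le_smul K ⊤
      (Module.Finite.fg_top (R := R) (M := M ⧸ M')) hM''
    -- pass to `R / (r)`
    let J : Ideal R := Ideal.span {r}
    let g : Spec (.of (R ⧸ J)) ⟶ Spec (.of R) :=
      Spec.map (CommRingCat.ofHom (algebraMap R (R ⧸ J)))
    have hgen' := exists_epi_baseChange (A := R ⧸ J) f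
      (exists_epi_of_surjective M'.mkQ M'.mkQ_surjective f ⟨φ, hφ⟩)
    have hgC : g ⁻¹' C = ∅ := by
      rw [Set.eq_empty_iff_forall_notMem]
      intro p hp
      have hp1 : g p ∈ C := hp
      rw [← hir'] at hp1
      obtain ⟨z, hz⟩ := hp1
      have hq1 : (g p : PrimeSpectrum R) = PrimeSpectrum.comap (Ideal.Quotient.mk J) p := rfl
      have hq2 : (g p : PrimeSpectrum R) = PrimeSpectrum.comap (Ideal.Quotient.mk K) (e.hom z) := by
        rw [← hz, he]
        rfl
      have hp2 : r - 1 ∈ (g p : PrimeSpectrum R).asIdeal := by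
        rw [hq2]
        exact mem_comap_asIdeal (Ideal.Quotient.mk K) _ (Ideal.Quotient.eq_zero_iff_mem.mpr hr1)
      have hp3 : r ∈ (g p : PrimeSpectrum R).asIdeal := by
        rw [hq1]
        exact mem_comap_asIdeal (Ideal.Quotient.mk J) _
          (Ideal.Quotient.eq_zero_iff_mem.mpr (Ideal.mem_span_singleton_self r))
      have hp4 : (1 : R) ∈ (g p : PrimeSpectrum R).asIdeal := by
        have h8 : (1 : R) = r - (r - 1) := by ring
        rw [h8]
        exact Submodule.sub_mem _ hp3 hp2
      exact (g p : PrimeSpectrum R).isPrime.ne_top ((Ideal.eq_top_iff_one _).mpr hp4)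
    have hrel : NisRel (pullback.snd f g) m ∅ Set.univ := by
      have h9 := hC4.pullback g
      rwa [hgC, Set.preimage_univ] at h9
    obtain ⟨s₁, hs₁⟩ := ih (R ⧸ J) ((R ⧸ J) ⊗[R] (M ⧸ M')) (pullback.snd f g) hrel hgen'
    have hJ : (J • ⊤ : Submodule R (M ⧸ M')) = ⊥ := by
      rw [eq_bot_iff]
      refine Submodule.smul_le.mpr fun a ha y _ => ?_
      obtain ⟨c, rfl⟩ := Ideal.mem_span_singleton'.mp ha
      rw [mul_smul, hr2 y trivial, smul_zero]
      exact Submodule.zero_mem _
    choose s₂ hs₂ using fun k => mk_one_surjective J (M ⧸ M') (s₁ k)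
    choose s₃ hs₃ using fun k => M'.mkQ_surjective (s₂ k)
    refine ⟨Fin.append s₃ t, ?_⟩
    rw [eq_top_iff]
    intro y _
    have h1 : (1 : R ⧸ J) ⊗ₜ[R] (M'.mkQ y) ∈ Submodule.span (R ⧸ J) (Set.range s₁) := by
      rw [hs₁]; trivial
    obtain ⟨c, hc⟩ := (Submodule.mem_span_range_iff_exists_fun _).mp h1
    choose a ha using fun k => Ideal.Quotient.mk_surjective (c k)
    have h2 : (1 : R ⧸ J) ⊗ₜ[R] (M'.mkQ y - ∑ k, a k • s₂ k) = 0 := by
      rw [TensorProduct.tmul_sub, TensorProduct.tmul_sum, ← hc, sub_eq_zero]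
      refine Finset.sum_congr rfl fun k _ => ?_
      rw [← ha, ← hs₂, TensorProduct.mk_apply, TensorProduct.tmul_smul]
      rfl
    have h3 : M'.mkQ y - ∑ k, a k • s₂ k = 0 := by
      have h4 := TensorProduct.quotTensorEquivQuotSMul_mk_one_tmul (M := M ⧸ M') J
        (M'.mkQ y - ∑ k, a k • s₂ k)
      rw [h2, map_zero] at h4
      have h5 := (Submodule.Quotient.mk_eq_zero _).mp h4.symm
      rwa [hJ, Submodule.mem_bot] at h5
    have h6 : M'.mkQ (y - ∑ k, a k • s₃ k) = 0 := by
      rw [map_sub, map_sum, ← h3]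
      congr 1
      refine Finset.sum_congr rfl fun k _ => ?_
      rw [map_smul, hs₃]
    have h7 : y - ∑ k, a k • s₃ k ∈ M' := (Submodule.Quotient.mk_eq_zero _).mp h6
    have h8 : y = (y - ∑ k, a k • s₃ k) + ∑ k, a k • s₃ k := by abel
    rw [h8]
    refine Submodule.add_mem _ (Submodule.span_mono ?_ h7)
      (Submodule.sum_mem _ fun k _ => Submodule.smul_mem _ _ (Submodule.subset_span ?_))
    · rintro _ ⟨k, rfl⟩
      exact ⟨Fin.natAdd (N * m) k, Fin.append_right _ _ _⟩
    · exact ⟨Fin.castAdd N k, Fin.append_left _ _ _⟩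

end K574.NisGen
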