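import Mathlib.AlgebraicGeometry.AffineScheme
import Mathlib.AlgebraicGeometry.PullbackCarrier
import Mathlib.AlgebraicGeometry.Morphisms.QuasiSeparated
import Mathlib.LinearAlgebra.DFinsupp

/-!
# Partitions of unity on affine schemes

If a morphism `g : Spec B ⟶ Y` is given and `Y` is covered by `n` opens `V 0, …, V (n-1)`, then there are
`x 0, …, x (n-1) ∈ B` with sum `1` such that `D(x j)` is mapped into `V j`.
-/

set_option autoImplicit false
universe u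
open CategoryTheory CategoryTheory.Limits AlgebraicGeometry Topology TopologicalSpace

namespace K574.Part

theorem exists_partition_of_opens {B : CommRingCat.{u}} {n : ℕ} (V : Fin n → (Spec B).Opens)
    (hV : ⨆ j, V j = ⊤) :
    ∃ x : Fin n → B, ∑ j, x j = 1 ∧ ∀ j, PrimeSpectrum.basicOpen (x j) ≤ V j := by
  classical
  have h1 : ∀ j, ∃ I : Ideal B, ((V j : Set (Spec B))ᶜ : Set (PrimeSpectrum B)) =
      PrimeSpectrum.zeroLocus (I : Set B) := by
    intro j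
    obtain ⟨I, hI⟩ := (PrimeSpectrum.isClosed_iff_zeroLocus_ideal _).mp (V j).2.isClosed_compl
    exact ⟨I, hI⟩
  choose I hI using h1
  have h2 : (⨆ j, I j) = ⊤ := by
    rw [← PrimeSpectrum.zeroLocus_empty_iff_eq_top, PrimeSpectrum.zeroLocus_iSup]
    rw [Set.eq_empty_iff_forall_notMem]
    intro p hp
    have hp' : p ∈ (⨆ j, V j) := by rw [hV]; trivial
    obtain ⟨j, hj⟩ := Opens.mem_iSup.mp hp'
    have h3 := Set.mem_iInter.mp hp j
    rw [← hI j] at h3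
    exact h3 hj
  have h3 : (1 : B) ∈ ⨆ j, I j := by rw [h2]; trivial
  obtain ⟨x, hx, hx1⟩ := (Submodule.mem_iSup_iff_exists_finsupp _ _).mp h3
  refine ⟨x, ?_, fun j p hp => ?_⟩
  · rw [← hx1, Finsupp.sum_fintype _ _ (fun _ => rfl)]
  · by_contra hpV
    have h4 : p ∈ PrimeSpectrum.zeroLocus (I j : Set B) := by
      rw [← hI j]
      exact hpV
    exact hp (h4 (hx j))

/-- Partition of unity adapted to a morphism. -/
theorem exists_partition {B : CommRingCat.{u}} {Y : Scheme.{u}} (g : Spec B ⟶ Y) {n : ℕ}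
    (V : Fin n → Y.Opens) (hV : ⨆ j, V j = ⊤) :
    ∃ x : Fin n → B, ∑ j, x j = 1 ∧ ∀ j, PrimeSpectrum.basicOpen (x j) ≤ g ⁻¹ᵁ V j := by
  refine exists_partition_of_opens (fun j => g ⁻¹ᵁ V j) ?_
  rw [← Scheme.Hom.preimage_iSup, hV]
  rfl

theorem iSup_basicOpen_eq_top {B : CommRingCat.{u}} {n : ℕ} (x : Fin n → B) (hx : ∑ j, x j = 1) :
    (⨆ j, (PrimeSpectrum.basicOpen (x j) : (Spec B).Opens)) = ⊤ := by
  rw [eq_top_iff]
  intro p _
  by_contra hp
  have h1 : ∀ j, x j ∈ p.asIdeal := by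
    intro j
    by_contra hj
    exact hp (Opens.mem_iSup.mpr ⟨j, hj⟩)
  have h2 : (1 : B) ∈ p.asIdeal := by
    rw [← hx]
    exact Submodule.sum_mem _ fun j _ => h1 j
  exact p.isPrime.ne_top ((Ideal.eq_top_iff_one _).mpr h2)

/-- The intersection `fst⁻¹ U ∩ snd⁻¹ D` is affine if `U`, `D` are affine and map into an affine open `V`. -/
theorem isAffineOpen_preimage_inf {W T Y : Scheme.{u}} (j : W ⟶ Y) (g : T ⟶ Y)
    {U : W.Opens} {D : T.Opens} {V : Y.Opens} (hU : IsAffineOpen U) (hD : IsAffineOpen D)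
    (hV : IsAffineOpen V) (hUV : U ≤ j ⁻¹ᵁ V) (hDV : D ≤ g ⁻¹ᵁ V) :
    IsAffineOpen ((pullback.fst j g ⁻¹ᵁ U) ⊓ (pullback.snd j g ⁻¹ᵁ D)) := by
  have : IsAffine U := hU
  have : IsAffine D := hD
  have : IsAffine V := hV
  let f' : (U : Scheme.{u}) ⟶ V := j.resLE V U hUV
  let g' : (D : Scheme.{u}) ⟶ V := g.resLE V D hDV
  have e₁ : f' ≫ V.ι = U.ι ≫ j := Scheme.Hom.resLE_comp_ι _ _
  have e₂ : g' ≫ V.ι = D.ι ≫ g := Scheme.Hom.resLE_comp_ι _ _
  let m : pullback f' g' ⟶ pullback j g := pullback.map f' g' j g U.ι D.ι V.ι e₁ e₂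
  have hm : IsOpenImmersion m := inferInstance
  have h1 : IsAffineOpen m.opensRange := isAffineOpen_opensRange m
  have h2 : m.opensRange = (pullback.fst j g ⁻¹ᵁ U) ⊓ (pullback.snd j g ⁻¹ᵁ D) := by
    apply Opens.ext
    have h3 := Scheme.Pullback.range_map f' g' j g U.ι D.ι V.ι e₁ e₂
    rw [Scheme.Opens.range_ι, Scheme.Opens.range_ι] at h3
    exact h3
  rwa [h2] at h1

/-- A quasi-compact morphism to a quasi-compact scheme has a finite "adapted" affine cover. -/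
theorem exists_adapted_cover {W Y : Scheme.{u}} (j : W ⟶ Y) [CompactSpace W] [CompactSpace Y]
    [QuasiSeparatedSpace Y] :
    ∃ (n : ℕ) (V : Fin n → Y.Opens) (m : ℕ) (a : Fin m → Fin n) (U : Fin m → W.Opens),
      (∀ k, IsAffineOpen (V k)) ∧ (⨆ k, V k = ⊤) ∧ (∀ l, IsAffineOpen (U l)) ∧
      (∀ l, U l ≤ j ⁻¹ᵁ V (a l)) ∧ ∀ k (w : W), j w ∈ V k → ∃ l, a l = k ∧ w ∈ U l := by
  classical
  obtain ⟨s, hs, hs'⟩ := (isCompact_iff_finite_and_eq_biUnion_affineOpens (X := Y) (U := ⊤)).mp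
    isCompact_univ
  have hqc : QuasiCompact j := by
    rw [quasiCompact_iff_compactSpace]
    infer_instance
  have := hs.to_subtype
  obtain ⟨n, ⟨e⟩⟩ := Finite.exists_equiv_fin s
  let V : Fin n → Y.Opens := fun k => (e.symm k).1.1
  have hV : ∀ k, IsAffineOpen (V k) := fun k => (e.symm k).1.2
  have hVc : ⨆ k, V k = ⊤ := by
    rw [eq_top_iff]
    intro y _
    have hy : y ∈ (⊤ : Y.Opens) := trivial
    rw [hs'] at hy
    simp only [Opens.mem_iSup] at hy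
    obtain ⟨i, hi, hy⟩ := hy
    refine Opens.mem_iSup.mpr ⟨e ⟨i, hi⟩, ?_⟩
    simpa [V] using hy
  have hW : ∀ k, ∃ t : Set W.affineOpens, t.Finite ∧ j ⁻¹ᵁ V k = ⨆ i ∈ t, (i : W.Opens) := fun k =>
    (isCompact_iff_finite_and_eq_biUnion_affineOpens (X := W)).mp
      (j.isCompact_preimage (hV k).isCompact)
  choose t ht ht' using hW
  have : ∀ k, Finite (t k) := fun k => (ht k).to_subtype
  obtain ⟨m, ⟨e'⟩⟩ := Finite.exists_equiv_fin (Σ k : Fin n, t k)
  refine ⟨n, V, m, fun l => (e'.symm l).1, fun l => (e'.symm l).2.1.1, hV, hVc,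
    fun l => (e'.symm l).2.1.2, fun l => ?_, fun k w hw => ?_⟩
  · rw [ht']
    exact le_iSup₂_of_le (e'.symm l).2.1 (e'.symm l).2.2 le_rfl
  · have hw' : w ∈ j ⁻¹ᵁ V k := hw
    rw [ht'] at hw'
    simp only [Opens.mem_iSup] at hw'
    obtain ⟨i, hi, hw'⟩ := hw'
    refine ⟨e' ⟨k, ⟨i, hi⟩⟩, by simp, ?_⟩
    have h5 := congrArg (fun z : (Σ k : Fin n, t k) => (z.2.1.1 : W.Opens))
      (e'.symm_apply_apply ⟨k, ⟨i, hi⟩⟩)
    exact h5.ge hw'

/-- Uniform affine covers of pull-backs. -/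
theorem exists_uniform_affine_cover {W Y : Scheme.{u}} (j : W ⟶ Y)
    [CompactSpace W] [CompactSpace Y] [QuasiSeparatedSpace Y] :
    ∃ m : ℕ, ∀ (B : CommRingCat.{u}) (g : Spec B ⟶ Y),
      ∃ U : Fin m → (Limits.pullback j g).Opens, (∀ k, IsAffineOpen (U k)) ∧ ⨆ k, U k = ⊤ := by
  obtain ⟨n, V, m, a, U, hV, hVc, hU, hUV, hcov⟩ := exists_adapted_cover j
  refine ⟨m, fun B g => ?_⟩
  obtain ⟨x, hx, hx'⟩ := exists_partition g V hVc
  refine ⟨fun l => (pullback.fst j g ⁻¹ᵁ U l) ⊓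
    (pullback.snd j g ⁻¹ᵁ (PrimeSpectrum.basicOpen (x (a l)) : (Spec B).Opens)), fun l => ?_, ?_⟩
  · exact isAffineOpen_preimage_inf j g (hU l) (IsAffineOpen.Spec_basicOpen _) (hV (a l)) (hUV l)
      (hx' (a l))
  · rw [eq_top_iff]
    intro p _
    have h1 : pullback.snd j g p ∈ (⨆ j, (PrimeSpectrum.basicOpen (x j) : (Spec B).Opens)) := by
      rw [iSup_basicOpen_eq_top x hx]
      trivial
    obtain ⟨k, hk⟩ := Opens.mem_iSup.mp h1
    have h2 : j (pullback.fst j g p) ∈ V k := by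
      have h3 : g (pullback.snd j g p) ∈ V k := hx' k hk
      rwa [← Scheme.Hom.comp_apply, ← pullback.condition, Scheme.Hom.comp_apply] at h3
    obtain ⟨l, rfl, hl⟩ := hcov k _ h2
    exact Opens.mem_iSup.mpr ⟨l, hl, hk⟩

end K574.Part
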