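import Groth.Agent.PerfC.FPSections
import Groth.Agent.Desc.FPSections
import Groth.Agent.FormalA.PullbackQC
import Groth.Agent.CalgA.MLBasic
import Groth.Agent.Algz.K574.PiPts
import Groth.Agent.Ega1.TildePullback

/-!
# Products of global sections of pullbacks of a finitely presented module
-/

set_option autoImplicit false
universe u

open CategoryTheory CategoryTheory.Limits AlgebraicGeometry Opposite TopologicalSpace
open scoped TensorProduct

namespace K574.PiFP

/-- Finite presentation is invariant under a ring isomorphism. -/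
theorem fp_of_ringEquiv {R S P : Type*} [CommRing R] [CommRing S] [AddCommGroup P] [Module R P]
    [Module S P] (e : R ≃+* S) (h : ∀ (r : R) (x : P), e r • x = r • x)
    [Module.FinitePresentation R P] : Module.FinitePresentation S P := by
  let : Algebra R S := e.toRingHom.toAlgebra
  have : IsScalarTower R S P := ⟨fun r s x => by
    obtain ⟨t, rfl⟩ := e.surjective s
    have h1 : r • e t = e (r * t) := by rw [map_mul]; rfl
    rw [h1, h, h, mul_smul]⟩
  have hs : Function.Surjective (algebraMap R S) := e.surjective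
  have hb : IsBaseChange S (LinearMap.id : P →ₗ[R] P) := by
    refine IsBaseChange.of_lift_unique _ fun Q _ _ _ _ g => ?_
    refine ⟨{ g with
      map_smul' := fun s x => by
        obtain ⟨t, rfl⟩ := hs s
        have h1 : (algebraMap R S t) • x = t • x := by rw [algebraMap_smul]
        have h2 : (algebraMap R S t) • g x = t • g x := by rw [algebraMap_smul]
        change g ((algebraMap R S t) • x) = (algebraMap R S t) • g x
        rw [h1, h2, map_smul] }, by ext x; rfl, ?_⟩
    intro g' hg'
    ext x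
    exact LinearMap.congr_fun hg' x
  exact FinitePresentation.of_isBaseChange LinearMap.id hb

theorem fp_tensor {R M N : Type*} [CommRing R] [AddCommGroup M] [Module R M]
    [AddCommGroup N] [Module R N] (e : R ≃ₗ[R] N) (h : Module.FinitePresentation R M) :
    Module.FinitePresentation R (M ⊗[R] N) :=
  Module.FinitePresentation.of_equiv
    ((TensorProduct.rid R M).symm ≪≫ₗ TensorProduct.congr (LinearEquiv.refl R M) e)

/-- `∏ (A i ⊗ M)` is finitely presented over `∏ A i` if `M` is. -/
theorem fp_pi {ι : Type*} (A : ι → Type*) [∀ i, CommRing (A i)] (M : Type*) [AddCommGroup M]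
    [Module (∀ i, A i) M] [Module.FinitePresentation (∀ i, A i) M]
    (N : ι → Type*) [∀ i, AddCommGroup (N i)] [∀ i, Module (A i) (N i)]
    (e : letI := fun i => (Pi.evalRingHom A i).toAlgebra
      ∀ i, N i ≃ₗ[A i] (A i ⊗[∀ i, A i] M)) :
    Module.FinitePresentation (∀ i, A i) (∀ i, N i) := by
  let := fun i => (Pi.evalRingHom A i).toAlgebra
  let p := TensorProduct.piRightHom (∀ i, A i) (∀ i, A i) M A
  have hp : Function.Bijective p :=
    ⟨Groth.Agent.CalgA.MLBasic.piRightHom_injective_of_finitePresentation A,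
      Groth.Agent.CalgA.MLBasic.piRightHom_surjective_of_finite A⟩
  let q := (LinearEquiv.ofBijective p hp)
  have hsm : ∀ (r : ∀ i, A i) (i : ι) (x : A i ⊗[∀ i, A i] M), r • x = r i • x := by
    intro r i x
    induction x using TensorProduct.induction_on with
    | zero => simp
    | tmul a n => rfl
    | add x y hx hy => rw [smul_add, smul_add, hx, hy]
  let E : (∀ i, M ⊗[∀ i, A i] A i) ≃ₗ[∀ i, A i] (∀ i, N i) :=
    { toFun := fun x i => (e i).symm (TensorProduct.comm _ _ _ (x i))
      invFun := fun y i => (TensorProduct.comm _ _ _).symm (e i (y i))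
      left_inv := fun x => by ext i; simp
      right_inv := fun x => by ext i; simp
      map_add' := fun x y => by ext i; simp
      map_smul' := fun r x => by
        ext i
        change (e i).symm (TensorProduct.comm _ _ _ (r • x i)) =
          r i • (e i).symm (TensorProduct.comm _ _ _ (x i))
        rw [map_smul, hsm, map_smul] }
  refine @Module.FinitePresentation.of_equiv _ _ _ _ _ _ _ _ (q ≪≫ₗ E) ?_
  refine fp_tensor ?_ inferInstance
  exact
    { AddEquiv.refl (∀ i, A i) with
      map_smul' := fun r x => rfl }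

open Scheme.Modules in
/-- Global sections of the pullback of `tilde M`. -/
theorem sectionsEquiv {R S : CommRingCat.{u}} (φ : R ⟶ S) (M : ModuleCat.{u} R)
    (G : (Spec S).Modules) (e : G ≅ (Scheme.Modules.pullback (Spec.map φ)).obj (tilde M)) :
    letI := φ.hom.toAlgebra
    Nonempty (Γ(G, ⊤) ≃ₗ[S] (S ⊗[R] M)) := by
  let := φ.hom.toAlgebra
  let e' : G ≅ tilde (ModuleCat.of S (S ⊗[R] M)) :=
    e ≪≫ Groth.Agent.Ega1.TildePullback.pullbackTildeIso R S M
  let e1 : (modulesSpecToSheaf.obj G).presheaf.obj (.op ⊤) ≅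
      (modulesSpecToSheaf.obj (tilde (ModuleCat.of S (S ⊗[R] M)))).presheaf.obj (.op ⊤) :=
    (TopCat.Sheaf.forget _ _ ⋙ (evaluation _ _).obj (.op ⊤)).mapIso (modulesSpecToSheaf.mapIso e')
  exact ⟨(e1 ≪≫ (tilde.isoTop _).symm).toLinearEquiv⟩

open Scheme.Modules in
theorem exists_tilde {R : CommRingCat.{u}} (G : (Spec R).Modules) (hG : CohB1.IsFP G) :
    ∃ M : ModuleCat.{u} R, Module.FinitePresentation R M ∧ Nonempty (G ≅ tilde M) := by
  have hGq : Coh.IsQCoh G := Groth.Agent.PerfC.FPSections.isQCoh_of_isFP hG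
  have : G.IsQuasicoherent := hGq
  have hiso : IsIso G.fromTildeΓ := inferInstance
  let M : ModuleCat.{u} R := (modulesSpecToSheaf.obj G).presheaf.obj (.op ⊤)
  have h1 : Module.FinitePresentation Γ(Spec R, ⊤) Γ(G, ⊤) :=
    Groth.Agent.Desc.FPSections.finitePresentation_sections (isAffineOpen_top _) hGq hG
  refine ⟨M, ?_, ⟨(asIso G.fromTildeΓ).symm⟩⟩
  refine fp_of_ringEquiv (R := Γ(Spec R, ⊤)) (P := Γ(G, ⊤))
    (Scheme.ΓSpecIso R).commRingCatIsoToRingEquiv ?_
  intro r x
  have h3 : (Scheme.ΓSpecIso R).inv ((Scheme.ΓSpecIso R).hom r) = r :=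
    Iso.hom_inv_id_apply (Scheme.ΓSpecIso R) r
  conv_rhs => rw [← h3]
  change ((Scheme.ΓSpecIso R).hom r) • x = _
  rw [smul_Spec_def]
  congr 1

open Scheme.Modules in
theorem main (X : Scheme.{u}) [CompactSpace X] [QuasiSeparatedSpace X]
    {ι : Type u} (A : ι → CommRingCat.{u}) (f : ∀ i, Spec (A i) ⟶ X) (F : X.Modules)
    (hF : CohB1.IsFP F) :
    Module.FinitePresentation (∀ i, Γ(Spec (A i), ⊤))
      (∀ i, Γ((Scheme.Modules.pullback (f i)).obj F, ⊤)) := by
  obtain ⟨F0, hF0⟩ := PiPts.exists_lift A X f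
  have hG : CohB1.IsFP ((Scheme.Modules.pullback F0).obj F) :=
    Groth.Agent.FormalA.PullbackQC.isFP_pullback F0 F hF
  obtain ⟨M, h2, ⟨eM⟩⟩ := exists_tilde _ hG
  have e : ∀ i, letI := fun i => (Pi.evalRingHom (fun i => (A i : Type u)) i).toAlgebra
      Nonempty (Γ((Scheme.Modules.pullback (f i)).obj F, ⊤) ≃ₗ[A i] (A i ⊗[∀ i, A i] M)) := by
    intro i
    refine sectionsEquiv (CommRingCat.ofHom (Pi.evalRingHom (fun i => (A i : Type u)) i)) M _ ?_
    refine (Scheme.Modules.pullbackCongr (hF0 i).symm).app F ≪≫ ?_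
    refine ((Scheme.Modules.pullbackComp _ _).app F).symm ≪≫ ?_
    exact (Scheme.Modules.pullback _).mapIso eM
  have h3 : Module.FinitePresentation (∀ i, A i)
      (∀ i, Γ((Scheme.Modules.pullback (f i)).obj F, ⊤)) :=
    fp_pi (fun i => (A i : Type u)) M _ (fun i => (e i).some)
  refine fp_of_ringEquiv (R := ∀ i, A i) (RingEquiv.piCongrRight fun i =>
    (Scheme.ΓSpecIso (A i)).symm.commRingCatIsoToRingEquiv) ?_
  intro r x
  ext i
  change ((Scheme.ΓSpecIso (A i)).inv (r i)) • x i = r i • x i
  rw [smul_Spec_def]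
  congr 1

end K574.PiFP
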