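import Mathlib.AlgebraicGeometry.Morphisms.QuasiSeparated
import Mathlib.AlgebraicGeometry.Morphisms.Immersion
import Mathlib.AlgebraicGeometry.Morphisms.ClosedImmersion
import Mathlib.Algebra.Ring.Pi

/-!
# Points of a quasi-separated scheme with values in a product of rings: uniqueness
-/

set_option autoImplicit false
universe u
open CategoryTheory CategoryTheory.Limits AlgebraicGeometry Opposite TopologicalSpace Topology

namespace K574.PiInj

variable {ι : Type u} (A : ι → CommRingCat.{u})

/-- `Spec (A i) ⟶ Spec (∏ A i)` -/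
noncomputable def ev (i : ι) : Spec (A i) ⟶ Spec (CommRingCat.of (∀ i, A i)) :=
  Spec.map (CommRingCat.ofHom (Pi.evalRingHom (fun j => (A j : Type u)) i))

theorem span_eq_top_of_forall (s : Finset (∀ i, A i))
    (h : ∀ i, Ideal.span ((fun a : ∀ i, A i => a i) '' (s : Set (∀ i, A i))) = ⊤) :
    Ideal.span (s : Set (∀ i, A i)) = ⊤ := by
  classical
  have h1 : ∀ i, ∃ c : (∀ i, A i) → A i, ∑ a ∈ s, c a * a i = 1 := by
    intro i
    have h2 : (1 : A i) ∈ Ideal.span (Set.range fun a : s => (a : ∀ i, A i) i) := by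
      have h3 : (Set.range fun a : s => (a : ∀ i, A i) i) =
          (fun a : ∀ i, A i => a i) '' (s : Set (∀ i, A i)) := by
        ext y
        simp
      rw [h3, h i]
      trivial
    obtain ⟨c, hc⟩ := Ideal.mem_span_range_iff_exists_fun.mp h2
    refine ⟨fun a => if ha : a ∈ s then c ⟨a, ha⟩ else 0, ?_⟩
    rw [← hc, ← Finset.sum_coe_sort s]
    exact Finset.sum_congr rfl fun a _ => by simp
  choose c hc using h1
  rw [Ideal.eq_top_iff_one]
  have h4 : (1 : ∀ i, A i) = ∑ a ∈ s, (fun i => c i a) * a := by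
    funext i
    rw [Finset.sum_apply]
    exact (hc i).symm
  rw [h4]
  exact Submodule.sum_mem _ fun a ha => Ideal.mul_mem_left _ _ (Ideal.subset_span ha)

/-- A quasi-compact immersion through which all `Spec (A i)` factor is an isomorphism. -/
theorem isIso_of_factor {E : Scheme.{u}} (e : E ⟶ Spec (CommRingCat.of (∀ i, A i)))
    [IsImmersion e] [QuasiCompact e] (t : ∀ i, Spec (A i) ⟶ E) (ht : ∀ i, t i ≫ e = ev A i) :
    IsIso e := by
  obtain ⟨Z, g₁, g₂, h₁, h₂, he⟩ := IsImmersion.isImmersion_iff_exists_of_quasiCompact.mp ‹IsImmersion e›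
  have h₂' : IsIso g₂ := by
    obtain ⟨J, e', he'⟩ := IsClosedImmersion.Spec_iff.mp h₂
    have hJ : J = ⊥ := by
      rw [eq_bot_iff]
      intro a ha
      have h3 : ∀ i, a i = 0 := by
        intro i
        obtain ⟨ψ, hψ⟩ := Spec.map_surjective (t i ≫ g₁ ≫ e'.hom)
        have h4 : Spec.map (CommRingCat.ofHom (Ideal.Quotient.mk J) ≫ ψ) = ev A i := by
          rw [Spec.map_comp, hψ, ← ht i, ← he, he']
          simp only [Category.assoc]
        have h5 := Spec.map_injective h4
        have h6 := congrArg (fun φ => φ.hom a) h5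
        have h7 : ψ.hom (Ideal.Quotient.mk J a) = a i := h6
        rw [← h7, Ideal.Quotient.eq_zero_iff_mem.mpr ha, map_zero]
      exact funext h3
    have h8 : IsIso (Spec.map (CommRingCat.ofHom (Ideal.Quotient.mk J))) := by
      have h9 : Function.Bijective (Ideal.Quotient.mk J) := by
        refine ⟨?_, Ideal.Quotient.mk_surjective⟩
        rw [RingHom.injective_iff_ker_eq_bot, Ideal.mk_ker, hJ]
      have : IsIso (CommRingCat.ofHom (Ideal.Quotient.mk J)) :=
        (RingEquiv.ofBijective _ h9).toCommRingCatIso.isIso_hom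
      infer_instance
    rw [he']
    infer_instance
  have h₃ : IsOpenImmersion e := by
    rw [← he]
    infer_instance
  have hc : IsCompact (Set.range e) := by
    have h9 : CompactSpace E := QuasiCompact.compactSpace_of_compactSpace e
    exact isCompact_range e.continuous
  obtain ⟨s, hs⟩ := (PrimeSpectrum.isCompact_isOpen_iff (R := ∀ i, A i)).mp
    ⟨hc, e.isOpenEmbedding.isOpen_range⟩
  have hspan : Ideal.span (s : Set (∀ i, A i)) = ⊤ := by
    refine span_eq_top_of_forall A s fun i => ?_
    by_contra hne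
    obtain ⟨m, hm, hm'⟩ := Ideal.exists_le_maximal _ hne
    let p : (Spec (A i) : Scheme.{u}) := (⟨m, hm.isPrime⟩ : PrimeSpectrum (A i))
    have h10 : ev A i p ∈ Set.range e := by
      rw [← ht i, Scheme.Hom.comp_apply]
      exact ⟨_, rfl⟩
    have h11 : ev A i p ∈ (PrimeSpectrum.zeroLocus (s : Set (∀ i, A i)))ᶜ := by
      rw [hs]
      exact h10
    refine h11 fun a ha => ?_
    change a i ∈ m
    exact hm' (Ideal.subset_span ⟨a, ha, rfl⟩)
  have hsurj : Set.range e = Set.univ := by
    have h12 : (PrimeSpectrum.zeroLocus (s : Set (∀ i, A i)))ᶜ = Set.univ := by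
      rw [← PrimeSpectrum.zeroLocus_span, hspan]
      simp
    exact hs.symm.trans h12
  have h13 : Epi e.base := by
    rw [TopCat.epi_iff_surjective]
    exact Set.range_eq_univ.mp hsurj
  exact IsOpenImmersion.isIso e

theorem hom_ext (X : Scheme.{u}) [QuasiSeparatedSpace X]
    (f g : Spec (CommRingCat.of (∀ i, A i)) ⟶ X) (h : ∀ i, ev A i ≫ f = ev A i ≫ g) : f = g := by
  have h1 : IsIso (equalizer.ι f g) :=
    isIso_of_factor A (equalizer.ι f g) (fun i => equalizer.lift (ev A i) (h i))
      (fun i => equalizer.lift_ι _ _)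
  rw [← cancel_epi (equalizer.ι f g)]
  exact equalizer.condition f g

end K574.PiInj
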