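import Mathlib.RingTheory.Localization.Away.Basic
import Mathlib.RingTheory.Flat.Localization
import Mathlib.RingTheory.Spectrum.Prime.Topology
import Mathlib.Algebra.Ring.Pi
import Mathlib.Algebra.Group.Pi.Units
import Mathlib.RingTheory.RingHom.Flat

/-!
# Products of localizations are localizations of products
-/

set_option autoImplicit false
universe u

namespace K574.PiLoc

variable {ι : Type u} (A : ι → Type u) [∀ i, CommRing (A i)]

/-- `∏ A_i[1/x_i]` -/
abbrev L (x : ∀ i, A i) : Type u := ∀ i, Localization.Away (x i)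

/-- The map `∏ A_i ⟶ ∏ A_i[1/x_i]` -/
noncomputable def loc (x : ∀ i, A i) : (∀ i, A i) →+* L A x :=
  RingHom.pi fun i => (algebraMap (A i) (Localization.Away (x i))).comp (Pi.evalRingHom A i)

theorem loc_apply (x a : ∀ i, A i) (i : ι) :
    loc A x a i = algebraMap (A i) (Localization.Away (x i)) (a i) := rfl

/-- families of powers of the `x_i` -/
def S (x : ∀ i, A i) : Submonoid (∀ i, A i) where
  carrier := {y | ∀ i, ∃ n : ℕ, y i = x i ^ n}
  one_mem' := fun i => ⟨0, by simp⟩
  mul_mem' := by
    intro a b ha hb i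
    obtain ⟨n, hn⟩ := ha i
    obtain ⟨m, hm⟩ := hb i
    exact ⟨n + m, by rw [Pi.mul_apply, hn, hm, pow_add]⟩

theorem pow_mem_S (x : ∀ i, A i) (n : ι → ℕ) : (fun i => x i ^ n i) ∈ S A x := fun i => ⟨n i, rfl⟩

theorem isLocalization (x : ∀ i, A i) :
    @IsLocalization _ _ (S A x) (L A x) _ (loc A x).toAlgebra := by
  let : Algebra (∀ i, A i) (L A x) := (loc A x).toAlgebra
  refine { map_units := ?_, surj := ?_, exists_of_eq := ?_ }
  · rintro ⟨y, hy⟩
    rw [Pi.isUnit_iff]
    intro i
    obtain ⟨n, hn⟩ := hy i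
    change IsUnit (algebraMap (A i) (Localization.Away (x i)) (y i))
    rw [hn, map_pow]
    exact (IsLocalization.Away.algebraMap_isUnit (x i)).pow n
  · intro z
    have h1 : ∀ i, ∃ (n : ℕ) (a : A i), z i * algebraMap (A i) (Localization.Away (x i)) (x i ^ n) =
        algebraMap (A i) (Localization.Away (x i)) a := by
      intro i
      obtain ⟨n, a, h⟩ := IsLocalization.Away.surj (x i) (z i)
      exact ⟨n, a, by rw [map_pow]; exact h⟩
    choose n a h using h1
    exact ⟨(a, ⟨fun i => x i ^ n i, pow_mem_S A x n⟩), funext fun i => h i⟩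
  · intro a b hab
    have h1 : ∀ i, ∃ n : ℕ, x i ^ n * a i = x i ^ n * b i := by
      intro i
      have h2 : algebraMap (A i) (Localization.Away (x i)) (a i) =
          algebraMap (A i) (Localization.Away (x i)) (b i) := congrFun hab i
      obtain ⟨⟨_, n, rfl⟩, hn⟩ := (IsLocalization.eq_iff_exists (.powers (x i)) _).mp h2
      exact ⟨n, hn⟩
    choose n h using h1
    exact ⟨⟨fun i => x i ^ n i, pow_mem_S A x n⟩, funext fun i => h i⟩

theorem flat_loc (x : ∀ i, A i) : (loc A x).Flat := by
  let : Algebra (∀ i, A i) (L A x) := (loc A x).toAlgebra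
  have := isLocalization A x
  exact IsLocalization.flat (L A x) (S A x)

/-- joint surjectivity on spectra -/
theorem exists_mem_range {n : ℕ} (x : Fin n → ∀ i, A i) (hx : ∀ i, Ideal.span (Set.range fun j => x j i) = ⊤)
    (p : PrimeSpectrum (∀ i, A i)) : ∃ (j : Fin n), p ∈ Set.range (PrimeSpectrum.comap (loc A (x j))) := by
  by_contra h
  push Not at h
  have h1 : ∀ j, ∃ m : ι → ℕ, (fun i => x j i ^ m i) ∈ p.asIdeal := by
    intro j
    let : Algebra (∀ i, A i) (L A (x j)) := (loc A (x j)).toAlgebra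
    have := isLocalization A (x j)
    have h2 := PrimeSpectrum.localization_comap_range (L A (x j)) (S A (x j))
    have h3 : p ∉ {p : PrimeSpectrum (∀ i, A i) |
      Disjoint ((S A (x j)) : Set (∀ i, A i)) p.asIdeal} := by
      rw [← h2]
      exact h j
    have h4 : ¬ Disjoint ((S A (x j)) : Set (∀ i, A i)) p.asIdeal := h3
    rw [Set.not_disjoint_iff] at h4
    obtain ⟨y, hy, hyp⟩ := h4
    choose m hm using hy
    refine ⟨m, ?_⟩
    have : (fun i => x j i ^ m i) = y := funext fun i => (hm i).symm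
    rwa [this]
  choose m hm using h1
  have h5 : ∀ i, ∃ c : Fin n → A i, ∑ j, c j * x j i ^ m j i = 1 := by
    intro i
    have h6 : Ideal.span (Set.range fun j => x j i ^ m j i) = ⊤ := by
      rw [← PrimeSpectrum.zeroLocus_empty_iff_eq_top, PrimeSpectrum.zeroLocus_span,
        Set.eq_empty_iff_forall_notMem]
      intro q hq
      have h7 : ∀ j, x j i ∈ q.asIdeal := fun j => q.isPrime.mem_of_pow_mem _ (hq ⟨j, rfl⟩)
      have h8 : Ideal.span (Set.range fun j => x j i) ≤ q.asIdeal := by
        rw [Ideal.span_le]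
        rintro _ ⟨j, rfl⟩
        exact h7 j
      rw [hx i] at h8
      exact q.isPrime.ne_top (top_le_iff.mp h8)
    have h9 : (1 : A i) ∈ Ideal.span (Set.range fun j => x j i ^ m j i) := by
      rw [h6]; trivial
    obtain ⟨c, hc⟩ := Ideal.mem_span_range_iff_exists_fun.mp h9
    exact ⟨c, hc⟩
  choose c hc using h5
  have h10 : (1 : ∀ i, A i) = ∑ j, (fun i => c i j) * (fun i => x j i ^ m j i) := by
    funext i
    rw [Finset.sum_apply]
    exact (hc i).symm
  refine p.isPrime.ne_top ((Ideal.eq_top_iff_one _).mpr ?_)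
  rw [h10]
  exact Submodule.sum_mem _ fun j _ => Ideal.mul_mem_left _ _ (hm j)

end K574.PiLoc
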