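import Groth.Agent.Algz.K574.PiInj
import Groth.Agent.Algz.K574.PiLoc
import Groth.Agent.Algz.K574.Part
import Mathlib.AlgebraicGeometry.Sites.Fpqc

/-!
# Points of a qcqs scheme with values in a product of rings: existence
-/

set_option autoImplicit false
universe u
open CategoryTheory CategoryTheory.Limits AlgebraicGeometry Opposite TopologicalSpace Topology

namespace K574.PiSurj

open K574.PiInj K574.PiLoc

variable {ι : Type u} (A : ι → CommRingCat.{u})

/-- `A i` as types -/
abbrev T : ι → Type u := fun i => A i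

/-- `A_i[1/x_i]` as an object of `CommRingCat` -/
abbrev LC (x : ∀ i, A i) : ι → CommRingCat.{u} := fun i => CommRingCat.of (Localization.Away (x i))

/-- `Spec ∏ A_i[1/x_i] ⟶ Spec ∏ A_i` -/
noncomputable def pr (x : ∀ i, A i) : Spec (.of (L (T A) x)) ⟶ Spec (.of (∀ i, A i)) :=
  Spec.map (CommRingCat.ofHom (loc (T A) x))

/-- `Spec A_i[1/x_i] ⟶ Spec ∏ A_i[1/x_i]` -/
noncomputable abbrev ev' (x : ∀ i, A i) (i : ι) : Spec (LC A x i) ⟶ Spec (.of (L (T A) x)) :=
  ev (LC A x) i

/-- `Spec A_i[1/x_i] ⟶ Spec A_i` -/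
noncomputable def al (x : ∀ i, A i) (i : ι) : Spec (LC A x i) ⟶ Spec (A i) :=
  Spec.map (CommRingCat.ofHom (algebraMap (A i) (Localization.Away (x i))))

theorem ev'_pr (x : ∀ i, A i) (i : ι) : ev' A x i ≫ pr A x = al A x i ≫ ev A i := by
  rw [ev', ev, pr, al, ev, ← Spec.map_comp, ← Spec.map_comp]
  rfl

/-- componentwise localization map -/
noncomputable def mu (x z : ∀ i, A i)
    (h : ∀ i, IsUnit (algebraMap (A i) (Localization.Away (z i)) (x i))) :
    L (T A) x →+* L (T A) z :=
  RingHom.pi fun i => (IsLocalization.Away.lift (x i) (h i)).comp (Pi.evalRingHom _ i)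

theorem mu_comp_loc (x z : ∀ i, A i)
    (h : ∀ i, IsUnit (algebraMap (A i) (Localization.Away (z i)) (x i))) :
    (mu A x z h).comp (loc (T A) x) = loc (T A) z := by
  ext a i
  exact IsLocalization.Away.lift_eq (x i) (h i) (a i)

/-- a compatibility, affine case -/
theorem compat_aff {X : Scheme.{u}} [QuasiSeparatedSpace X] (f : ∀ i, Spec (A i) ⟶ X)
    (x y : ∀ i, A i)
    (gx : Spec (.of (L (T A) x)) ⟶ X) (hx : ∀ i, ev' A x i ≫ gx = al A x i ≫ f i)
    (gy : Spec (.of (L (T A) y)) ⟶ X) (hy : ∀ i, ev' A y i ≫ gy = al A y i ≫ f i)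
    {C : CommRingCat.{u}} (α : CommRingCat.of (L (T A) x) ⟶ C) (β : CommRingCat.of (L (T A) y) ⟶ C)
    (hab : CommRingCat.ofHom (loc (T A) x) ≫ α = CommRingCat.ofHom (loc (T A) y) ≫ β) :
    Spec.map α ≫ gx = Spec.map β ≫ gy := by
  let z : ∀ i, A i := x * y
  have hzx : ∀ i, IsUnit (algebraMap (A i) (Localization.Away (z i)) (x i)) := fun i =>
    isUnit_of_mul_isUnit_left (y := algebraMap (A i) (Localization.Away (z i)) (y i)) (by
      rw [← map_mul]
      exact IsLocalization.Away.algebraMap_isUnit (z i))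
  have hzy : ∀ i, IsUnit (algebraMap (A i) (Localization.Away (z i)) (y i)) := fun i =>
    isUnit_of_mul_isUnit_right (x := algebraMap (A i) (Localization.Away (z i)) (x i)) (by
      rw [← map_mul]
      exact IsLocalization.Away.algebraMap_isUnit (z i))
  let ψ : (∀ i, A i) →+* C := α.hom.comp (loc (T A) x)
  have hψ : ψ = β.hom.comp (loc (T A) y) := congrArg (fun t => t.hom) hab
  have hunit : ∀ (x : ∀ i, A i) (n : ι → ℕ), IsUnit (loc (T A) x (fun i => x i ^ n i)) := by
    intro x n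
    let _ : Algebra (∀ i, A i) (L (T A) x) := (loc (T A) x).toAlgebra
    have := PiLoc.isLocalization (T A) x
    exact IsLocalization.map_units (L (T A) x)
      (⟨fun i => x i ^ n i, pow_mem_S (T A) x n⟩ : S (T A) x)
  have hS : ∀ s : S (T A) z, IsUnit (ψ s) := by
    rintro ⟨s, hs⟩
    change IsUnit (ψ s)
    choose n hn using hs
    have h1 : s = (fun i => x i ^ n i) * (fun i => y i ^ n i) := by
      funext i
      rw [hn i, Pi.mul_apply, ← mul_pow]
      rfl
    rw [h1, map_mul]
    refine IsUnit.mul ?_ ?_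
    · exact (hunit x n).map α.hom
    · rw [hψ]
      exact (hunit y n).map β.hom
  let _ : Algebra (∀ i, A i) (L (T A) z) := (loc (T A) z).toAlgebra
  have hlz := PiLoc.isLocalization (T A) z
  let γ : L (T A) z →+* C := IsLocalization.lift (M := S (T A) z) hS
  have hγ : γ.comp (loc (T A) z) = ψ := IsLocalization.lift_comp hS
  have hα : γ.comp (mu A x z hzx) = α.hom := by
    let _ : Algebra (∀ i, A i) (L (T A) x) := (loc (T A) x).toAlgebra
    have := PiLoc.isLocalization (T A) x
    refine IsLocalization.ringHom_ext (S (T A) x) ?_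
    change (γ.comp (mu A x z hzx)).comp (loc (T A) x) = α.hom.comp (loc (T A) x)
    rw [RingHom.comp_assoc, mu_comp_loc, hγ]
  have hβ : γ.comp (mu A y z hzy) = β.hom := by
    let _ : Algebra (∀ i, A i) (L (T A) y) := (loc (T A) y).toAlgebra
    have := PiLoc.isLocalization (T A) y
    refine IsLocalization.ringHom_ext (S (T A) y) ?_
    change (γ.comp (mu A y z hzy)).comp (loc (T A) y) = β.hom.comp (loc (T A) y)
    rw [RingHom.comp_assoc, mu_comp_loc, hγ, hψ]
  have hα' : α = CommRingCat.ofHom (mu A x z hzx) ≫ CommRingCat.ofHom γ := by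
    ext1
    exact hα.symm
  have hβ' : β = CommRingCat.ofHom (mu A y z hzy) ≫ CommRingCat.ofHom γ := by
    ext1
    exact hβ.symm
  rw [hα', hβ', Spec.map_comp, Spec.map_comp, Category.assoc, Category.assoc]
  congr 1
  refine PiInj.hom_ext (LC A z) X _ _ fun i => ?_
  have key : ∀ (x : ∀ i, A i) (hzx : ∀ i, IsUnit (algebraMap (A i) (Localization.Away (z i)) (x i)))
      (gx : Spec (.of (L (T A) x)) ⟶ X) (_ : ∀ i, ev' A x i ≫ gx = al A x i ≫ f i),
      ev (LC A z) i ≫ Spec.map (CommRingCat.ofHom (mu A x z hzx)) ≫ gx = al A z i ≫ f i := by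
    intro x hzx gx hx
    have h2 : ev (LC A z) i ≫ Spec.map (CommRingCat.ofHom (mu A x z hzx)) =
        Spec.map (CommRingCat.ofHom (IsLocalization.Away.lift (x i) (hzx i))) ≫ ev' A x i := by
      rw [ev', ev, ev, ← Spec.map_comp, ← Spec.map_comp]
      rfl
    have h3 : Spec.map (CommRingCat.ofHom (IsLocalization.Away.lift (x i) (hzx i))) ≫ al A x i =
        al A z i := by
      rw [al, al, ← Spec.map_comp, ← CommRingCat.ofHom_comp]
      congr 2
      exact IsLocalization.Away.lift_comp (x i) (hzx i)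
    rw [← Category.assoc, h2, Category.assoc, hx, ← Category.assoc, h3]
  rw [key x hzx gx hx, key y hzy gy hy]

/-- A compatible pair -/
theorem compat {X : Scheme.{u}} [QuasiSeparatedSpace X] (f : ∀ i, Spec (A i) ⟶ X) (x y : ∀ i, A i)
    (gx : Spec (.of (L (T A) x)) ⟶ X) (hx : ∀ i, ev' A x i ≫ gx = al A x i ≫ f i)
    (gy : Spec (.of (L (T A) y)) ⟶ X) (hy : ∀ i, ev' A y i ≫ gy = al A y i ≫ f i)
    {Z : Scheme.{u}} (a : Z ⟶ Spec (.of (L (T A) x))) (b : Z ⟶ Spec (.of (L (T A) y)))
    (hab : a ≫ pr A x = b ≫ pr A y) : a ≫ gx = b ≫ gy := by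
  -- reduce to affine `Z`
  refine Scheme.Cover.hom_ext Z.affineCover _ _ fun k => ?_
  have hab' : (Z.affineCover.f k ≫ a) ≫ pr A x = (Z.affineCover.f k ≫ b) ≫ pr A y := by
    rw [Category.assoc, Category.assoc, hab]
  rw [← Category.assoc, ← Category.assoc]
  generalize Z.affineCover.f k ≫ a = a' at hab' ⊢
  generalize Z.affineCover.f k ≫ b = b' at hab' ⊢
  change Spec _ ⟶ _ at a' b'
  obtain ⟨α, rfl⟩ := Spec.map_surjective a'
  obtain ⟨β, rfl⟩ := Spec.map_surjective b'
  refine compat_aff A f x y gx hx gy hy α β ?_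
  apply Spec.map_injective
  rw [Spec.map_comp, Spec.map_comp]
  exact hab'

end K574.PiSurj
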