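import Groth.Agent.Algz.K574.NisGen
import Groth.Agent.Ega3B.LocFree
import Mathlib.RingTheory.Finiteness.Descent

/-!
# Uniform generation along Nisnevich covers, for modules
-/

set_option autoImplicit false
universe u

open CategoryTheory CategoryTheory.Limits AlgebraicGeometry Opposite TopologicalSpace
open scoped TensorProduct

namespace K574.SizeGen

/-- `M` is a quotient of `R^n`. -/
def Gen (R : Type*) [CommRing R] (M : Type*) [AddCommGroup M] [Module R M] (n : ℕ) : Prop :=
  ∃ g : (Fin n → R) →ₗ[R] M, Function.Surjective g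

section Gen

variable {R : Type*} [CommRing R] {M N : Type*} [AddCommGroup M] [Module R M] [AddCommGroup N]
  [Module R N] {n m : ℕ}

theorem gen_iff : Gen R M n ↔ ∃ s : Fin n → M, Submodule.span R (Set.range s) = ⊤ := by
  constructor
  · rintro ⟨g, hg⟩
    refine ⟨fun i => g (Pi.single i 1), ?_⟩
    have h1 := (Pi.basisFun R (Fin n)).span_eq
    have h2 := congrArg (Submodule.map g) h1
    rw [Submodule.map_span, Submodule.map_top, LinearMap.range_eq_top.mpr hg] at h2
    rw [← h2]
    congr 1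
    ext y
    simp
  · rintro ⟨s, hs⟩
    refine ⟨Fintype.linearCombination R s, ?_⟩
    rw [← LinearMap.range_eq_top, Fintype.range_linearCombination, hs]

theorem Gen.of_surjective (h : Gen R M n) (f : M →ₗ[R] N) (hf : Function.Surjective f) :
    Gen R N n := by
  obtain ⟨g, hg⟩ := h
  exact ⟨f ∘ₗ g, hf.comp hg⟩

theorem Gen.of_equiv (h : Gen R M n) (e : M ≃ₗ[R] N) : Gen R N n :=
  h.of_surjective e.toLinearMap e.surjective

theorem Gen.mono (h : Gen R M n) (hnm : n ≤ m) : Gen R M m := by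
  obtain ⟨g, hg⟩ := h
  refine ⟨g ∘ₗ LinearMap.funLeft R R (Fin.castLE hnm), hg.comp ?_⟩
  exact LinearMap.funLeft_surjective_of_injective R R _ (Fin.castLE_injective hnm)

theorem Gen.prod (h : Gen R M n) (h' : Gen R N m) : Gen R (M × N) (n + m) := by
  obtain ⟨g, hg⟩ := h
  obtain ⟨g', hg'⟩ := h'
  let e : (Fin (n + m) → R) ≃ₗ[R] (Fin n → R) × (Fin m → R) :=
    (LinearEquiv.funCongrLeft R R finSumFinEquiv) ≪≫ₗ LinearEquiv.sumArrowLequivProdArrow _ _ R R
  exact ⟨(g.prodMap g') ∘ₗ e.toLinearMap, (hg.prodMap hg').comp e.surjective⟩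

theorem Gen.of_subsingleton [Subsingleton M] : Gen R M n :=
  ⟨0, fun _ => ⟨0, Subsingleton.elim _ _⟩⟩

theorem gen_self (R : Type*) [CommRing R] (n : ℕ) : Gen R (Fin n → R) n :=
  ⟨LinearMap.id, Function.surjective_id⟩

theorem Gen.finite (h : Gen R M n) : Module.Finite R M := by
  obtain ⟨g, hg⟩ := h
  exact Module.Finite.of_surjective g hg

theorem Gen.baseChange {S : Type*} [CommRing S] [Algebra R S] (h : Gen R M n) :
    Gen S (S ⊗[R] M) n := by
  obtain ⟨g, hg⟩ := h
  have h1 : Gen S (S ⊗[R] (Fin n → R)) n :=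
    (gen_self S n).of_equiv (TensorProduct.piScalarRight R S S (Fin n)).symm
  exact h1.of_surjective (g.baseChange S) (LinearMap.lTensor_surjective S hg)

end Gen

theorem surj_of_nisRel {U Y : Scheme.{u}} {f : U ⟶ Y} {m : ℕ} : ∀ {A B : Set Y},
    Nis.NisRel f m A B → ∀ y ∈ B, y ∉ A → ∃ u, f u = y := by
  induction m with
  | zero =>
    intro A B h y hy hy'
    have : A = B := h
    exact absurd (this ▸ hy) hy'
  | succ m ih =>
    intro A B h y hy hy'
    obtain ⟨C, hC, hCB, h1, h2, T, g, s, hg, hr, hs⟩ := h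
    by_cases hyC : y ∈ C
    · exact ih hC y hyC hy'
    · have : y ∈ Set.range (fun t : T => g t) := by
        rw [hr]
        exact ⟨hy, hyC⟩
      obtain ⟨t, rfl⟩ := this
      refine ⟨s t, ?_⟩
      rw [← Scheme.Hom.comp_apply, hs]

open Scheme.Modules in
theorem gen_of_nisCover {R B : Type u} [CommRing R] [CommRing B] [Algebra R B] {m n : ℕ}
    (h : W4c5algebraiztannaka.IsNisCoverLen
      (Spec.map (CommRingCat.ofHom (algebraMap R B))) m)
    (M : Type u) [AddCommGroup M] [Module R M] [Module.Finite R M] (hM : Gen B (B ⊗[R] M) n) :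
    Gen R M (n * m) := by
  rw [gen_iff]
  have h1 := Nis.nisRel_empty_univ_of_isNisCoverLen h
  refine NisGen.exists_generators_of_nisRel n m R M _ h1 ?_
  obtain ⟨g, hg⟩ := hM
  have : Epi (ModuleCat.ofHom g) := (ModuleCat.epi_iff_surjective _).2 hg
  let e1 : FlatMod.freeMod (Spec (.of B)) n ≅ tilde (ModuleCat.of (CommRingCat.of B) (Fin n → B)) :=
    (Groth.Agent.Ega3B.LocFree.tildePiIso (.of B) n).symm
  let e2 : tilde (ModuleCat.of (CommRingCat.of B) (B ⊗[R] M)) ≅
      (Scheme.Modules.pullback (Spec.map (CommRingCat.ofHom (algebraMap R B)))).obj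
        (tilde (ModuleCat.of (CommRingCat.of R) M)) :=
      (Groth.Agent.Ega1.TildePullback.pullbackTildeIso R B M).symm
  refine ⟨e1.hom ≫ (tilde.functor (.of B)).map (ModuleCat.ofHom g) ≫ e2.hom, ?_⟩
  have h2 := NisGen.epi_tilde_map (R := .of B) (ModuleCat.ofHom g)
  have h3 : Epi e1.hom := inferInstance
  have h4 : Epi e2.hom := inferInstance
  exact epi_comp' h3 (epi_comp' h2 h4)

end K574.SizeGen
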