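import Groth.Agent.Algz.K574.SizeTop
import Groth.Agent.Algz.K574.SizeGen
import Groth.Agent.PerfA.ExactD
import Groth.Agent.RedSub.H646.ProjDesc
import Groth.Prelude.Def_W4c5algebraiztannakaNis
import Mathlib.Algebra.Category.ModuleCat.Descent

/-!
# Complexes with terms of bounded size
-/

set_option autoImplicit false
universe u

open CategoryTheory CategoryTheory.Limits AlgebraicGeometry Opposite TopologicalSpace
open scoped TensorProduct
attribute [local instance] HasDerivedCategory.standard

namespace K574.SizeCx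

open SizeGen W4c5algebraiztannaka

variable {R : Type u} [CommRing R]

/-- Complexes of projective modules in degrees `[c, b]` whose terms are quotients of `R^n`. -/
structure Sz (P : DRing.Cx R) (c b : ℤ) (n : ℕ) : Prop where
  van : DRing.VanishesOutside P c b
  proj : ∀ i, Module.Projective R (P.X i)
  gen : ∀ i, Gen R (P.X i) n

theorem Sz.proj' {P : DRing.Cx R} {c b : ℤ} {n : ℕ} (h : Sz P c b n) (i : ℤ) :
    Projective (P.X i) :=
  have := h.proj i
  ModuleCat.projective_of_categoryTheory_projective (P.X i)

theorem Sz.isKProjective {P : DRing.Cx R} {c b : ℤ} {n : ℕ} (h : Sz P c b n) :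
    P.IsKProjective := by
  have : P.IsStrictlyLE b :=
    (CochainComplex.isStrictlyLE_iff _ _).2 fun i hi => h.van i (Or.inr hi)
  have := h.proj'
  exact CochainComplex.isKProjective_of_projective P b

theorem sz_single (d : ℤ) (n : ℕ) :
    Sz ((HomologicalComplex.single (ModuleCat.{u} R) (ComplexShape.up ℤ) d).obj
      (ModuleCat.of R (Fin n → R))) d d n where
  van := fun i hi => HomologicalComplex.isZero_single_obj_X _ _ _ _ (by omega)
  proj := fun i => by
    by_cases hi : i = d
    · subst hi
      exact Module.Projective.of_equiv (HomologicalComplex.singleObjXSelf (ComplexShape.up ℤ) i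
        (ModuleCat.of R (Fin n → R))).symm.toLinearEquiv
    · have := ModuleCat.subsingleton_of_isZero
        (HomologicalComplex.isZero_single_obj_X (ComplexShape.up ℤ) d
          (ModuleCat.of R (Fin n → R)) i hi)
      infer_instance
  gen := fun i => by
    by_cases hi : i = d
    · subst hi
      exact (gen_self R n).of_equiv (HomologicalComplex.singleObjXSelf (ComplexShape.up ℤ) i
        (ModuleCat.of R (Fin n → R))).symm.toLinearEquiv
    · have := ModuleCat.subsingleton_of_isZero
        (HomologicalComplex.isZero_single_obj_X (ComplexShape.up ℤ) d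
          (ModuleCat.of R (Fin n → R)) i hi)
      exact Gen.of_subsingleton

theorem Sz.shift {P : DRing.Cx R} {c b : ℤ} {n : ℕ} (h : Sz P c b n) :
    Sz (P⟦(-1 : ℤ)⟧) (c + 1) (b + 1) n where
  van := fun i hi => h.van (i + (-1)) (by omega)
  proj := fun i => h.proj (i + (-1))
  gen := fun i => h.gen (i + (-1))

theorem Sz.cone {P Q : DRing.Cx R} {c₁ b₁ c₂ b₂ c b : ℤ} {n m : ℕ} (h : Sz P c₁ b₁ n)
    (h' : Sz Q c₂ b₂ m) (hc₁ : c + 1 ≤ c₁) (hc₂ : c ≤ c₂) (hb₁ : b₁ ≤ b + 1) (hb₂ : b₂ ≤ b)
    (u : P ⟶ Q) : Sz (CochainComplex.mappingCone u) c b (n + m) where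
  van := fun i hi => by
    rw [CochainComplex.mappingCone.isZero_X_iff]
    exact ⟨h.van _ (by omega), h'.van _ (by omega)⟩
  proj := fun i => by
    have := h.proj (i + 1)
    have := h'.proj i
    exact Module.Projective.of_equiv ((Groth.Agent.PerfB.KProjTop.mappingConeXIso u i) ≪≫
      ModuleCat.biprodIsoProd _ _).symm.toLinearEquiv
  gen := fun i => ((h.gen (i + 1)).prod (h'.gen i)).of_equiv
    ((Groth.Agent.PerfB.KProjTop.mappingConeXIso u i) ≪≫
      ModuleCat.biprodIsoProd _ _).symm.toLinearEquiv

theorem Sz.bc {B : Type u} [CommRing B] (φ : R →+* B) {P : DRing.Cx R} {c b : ℤ} {n : ℕ}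
    (h : Sz P c b n) : Sz ((bcCx φ).obj P) c b n where
  van := fun i hi => (ModuleCat.extendScalars.{u, u, u} φ).map_isZero (h.van i hi)
  proj := fun i => by
    have := h.proj i
    algebraize [φ]
    exact inferInstanceAs (Module.Projective B (TensorProduct R B (P.X i)))
  gen := fun i => by
    algebraize [φ]
    exact (h.gen i).baseChange (S := B)

theorem Sz.top {P : DRing.Cx R} {c b : ℤ} {n : ℕ} (h : Sz P c b n) (d : ℤ)
    (hd : ∀ i > d, P.ExactAt i) : Gen R (P.homology d) n := by
  have := h.isKProjective
  obtain ⟨p, hp⟩ := SizeTop.exists_extension P d hd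
  have : Epi p := epi_of_epi_fac hp
  exact (h.gen d).of_surjective p.hom ((ModuleCat.epi_iff_surjective _).1 inferInstance)

theorem Sz.bottom {P : DRing.Cx R} {c b : ℤ} {n : ℕ} (h : Sz P c b n)
    (hd : ∀ i > c, P.ExactAt i) : Module.Projective R (P.homology c) := by
  have := h.isKProjective
  obtain ⟨s, p, hp⟩ := SizeTop.exists_retract P c hd (h.van _ (Or.inl (by omega)))
  have := h.proj c
  exact Module.Projective.of_split s.hom p.hom (by rw [← ModuleCat.hom_comp, hp]; rfl)

end K574.SizeCx
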