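import Groth.Agent.Algz.K574.SizeMain
import Mathlib.AlgebraicGeometry.Morphisms.Flat

/-!
# Locally bounded size implies globally bounded size: final form
-/

set_option autoImplicit false
universe u

open CategoryTheory CategoryTheory.Limits AlgebraicGeometry Opposite TopologicalSpace
open scoped TensorProduct
attribute [local instance] HasDerivedCategory.standard

namespace K574.SizeFin

open SizeGen SizeCx SizeMain W4c5algebraiztannaka DerivedCategory

theorem faithfullyFlat_of_nisCover {R B : Type u} [CommRing R] [CommRing B] [Algebra R B] {m : ℕ}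
    (h : IsNisCoverLen (Spec.map (CommRingCat.ofHom (algebraMap R B))) m) :
    Module.FaithfullyFlat R B := by
  have := h.etale
  have h1 : Flat (Spec.map (CommRingCat.ofHom (algebraMap R B))) := inferInstance
  have h2 : Module.Flat R B := by
    have h3 := (HasRingHomProperty.Spec_iff (P := @Flat)).1 h1
    rw [CommRingCat.hom_ofHom] at h3
    exact RingHom.flat_algebraMap_iff.1 h3
  have h4 := Nis.nisRel_empty_univ_of_isNisCoverLen h
  refine Module.FaithfullyFlat.of_comap_surjective fun p => ?_
  obtain ⟨q, hq⟩ := surj_of_nisRel h4 (show Spec (CommRingCat.of R) from p) trivial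
    (Set.notMem_empty _)
  exact ⟨q, hq⟩

theorem final : ∃ F : ℕ → ℕ, ∀ (R : Type u) [CommRing R] (E : DRing.Cx R) (a b : ℤ),
      DRing.VanishesOutside E a b → DRing.TermwiseFiniteProjective E →
      ∀ N : ℕ, LocSize E N → GlobSize R (DRing.toD E) (F N) := by
  refine ⟨fun N => N + bd N (2 * N) N, ?_⟩
  intro R _ E a b hE hE' N ⟨B, _, φ, hφ, P, hP, ⟨e⟩⟩
  let : Algebra R B := φ.toAlgebra
  have hff : Module.FaithfullyFlat R B := faithfullyFlat_of_nisCover hφ
  have hpl : PreservesFiniteLimits (ex R B) := by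
    exact ModuleCat.preservesFiniteLimits_extendScalars_of_flat
      (RingHom.flat_algebraMap_iff.2 inferInstance)
  let e1 : DRing.toD P ≅ (ex R B).mapDerivedCategory.obj (DRing.toD E) :=
    e ≪≫ ((ex R B).mapDerivedCategoryFactors.app E).symm
  have hPs : Sz P (-(N : ℤ)) N N := ⟨hP.1, fun i => (hP.2 i).1, fun i => (hP.2 i).2⟩
  obtain ⟨Q, hQ, ⟨eQ⟩⟩ := SizeMain.main (R := R) (B := B) hφ (2 * N) N (-(N : ℤ)) N
    (DRing.toD E) P hPs (fun i hi => by
      have h6 : IsZero (P.homology i) := by
        rw [← HomologicalComplex.exactAt_iff_isZero_homology]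
        exact ShortComplex.exact_of_isZero_X₂ _ (hPs.van i (Or.inr (by push_cast at hi; omega)))
      have h7 : Subsingleton ((ex R B).obj ((homologyFunctor (ModuleCat.{u} R) i).obj
          (DRing.toD E))) :=
        ModuleCat.subsingleton_of_isZero (h6.of_iso (hIso _ P e1 i).symm)
      have h8 : Subsingleton (B ⊗[R] ((homologyFunctor (ModuleCat.{u} R) i).obj (DRing.toD E))) :=
        (exEquiv R B _).symm.toEquiv.subsingleton
      have h9 : Subsingleton ((homologyFunctor (ModuleCat.{u} R) i).obj (DRing.toD E)) :=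
        Module.FaithfullyFlat.lTensor_reflects_triviality R B _
      exact ModuleCat.isZero_of_subsingleton _) ⟨e1⟩
  refine ⟨Q, ⟨fun i hi => hQ.van i ?_, fun i => ⟨hQ.proj i, ?_⟩⟩, ⟨eQ⟩⟩
  · change i < -((N + bd N (2 * N) N : ℕ) : ℤ) ∨ ((N + bd N (2 * N) N : ℕ) : ℤ) < i at hi
    push_cast at hi ⊢
    omega
  · exact (hQ.gen i).mono (Nat.le_add_left _ _)

end K574.SizeFin
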