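import Groth.Agent.Algz.K574.SizeCx

/-!
# Locally bounded size implies globally bounded size
-/

set_option autoImplicit false
universe u

open CategoryTheory CategoryTheory.Limits AlgebraicGeometry Opposite TopologicalSpace
open scoped TensorProduct
attribute [local instance] HasDerivedCategory.standard

namespace K574.SizeMain

open SizeGen SizeCx W4c5algebraiztannaka Pretriangulated DerivedCategory

variable {R : Type u} [CommRing R]

/-- A map `R^k[-d] ⟶ K` hitting the top cohomology. -/
theorem exists_top_cover (K : Dual.D R) (d : ℤ) (k : ℕ)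
    (h : Gen R ((homologyFunctor (ModuleCat.{u} R) d).obj K) k) :
    ∃ α : DRing.toD ((HomologicalComplex.single (ModuleCat.{u} R) (ComplexShape.up ℤ) d).obj
        (ModuleCat.of R (Fin k → R))) ⟶ K,
      Epi ((homologyFunctor (ModuleCat.{u} R) d).map α) := by
  let K' : DRing.Cx R := DerivedCategory.Q.objPreimage K
  let e : DerivedCategory.Q.obj K' ≅ K := DerivedCategory.Q.objObjPreimageIso K
  let e1 : K'.homology d ≅ (DerivedCategory.homologyFunctor (ModuleCat.{u} R) d).obj K :=
    ((DerivedCategory.homologyFunctorFactors (ModuleCat.{u} R) d).app K').symm ≪≫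
      (DerivedCategory.homologyFunctor (ModuleCat.{u} R) d).mapIso e
  obtain ⟨f, hf⟩ := h.of_equiv e1.symm.toLinearEquiv
  let P : ModuleCat.{u} R := ModuleCat.of R (Fin k → R)
  have hP : Projective P := ModuleCat.projective_of_categoryTheory_projective P
  let g : P ⟶ K'.homology d := ModuleCat.ofHom f
  have hg : Epi g := (ModuleCat.epi_iff_surjective _).2 hf
  let l : P ⟶ K'.cycles d := Projective.factorThru g (K'.homologyπ d)
  have hl : l ≫ K'.homologyπ d = g := Projective.factorThru_comp _ _
  have hl0 : ∀ k, (ComplexShape.up ℤ).Rel d k → (l ≫ K'.iCycles d) ≫ K'.d d k = 0 := by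
    intro k hk
    simp
  let α : (HomologicalComplex.single (ModuleCat.{u} R) (ComplexShape.up ℤ) d).obj P ⟶ K' :=
    HomologicalComplex.mkHomFromSingle (l ≫ K'.iCycles d) hl0
  have hα : HomologicalComplex.homologyMap α d =
      (HomologicalComplex.singleObjHomologySelfIso (ComplexShape.up ℤ) d P).hom ≫ g := by
    rw [← cancel_epi (((HomologicalComplex.single (ModuleCat.{u} R) (ComplexShape.up ℤ)
      d).obj P).homologyπ d), HomologicalComplex.homologyπ_naturality,
      HomologicalComplex.homologyπ_singleObjHomologySelfIso_hom_assoc, ← hl, ← Category.assoc]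
    congr 1
    rw [← cancel_mono (K'.iCycles d)]
    simp only [α, HomologicalComplex.cyclesMap_i, HomologicalComplex.mkHomFromSingle_f,
      Category.assoc, HomologicalComplex.singleObjCyclesSelfIso_hom]
  have hepi : Epi (HomologicalComplex.homologyMap α d) := by
    rw [hα]
    exact epi_comp _ _
  refine ⟨DerivedCategory.Q.map α ≫ e.hom, ?_⟩
  rw [Functor.map_comp]
  have h3 : Epi ((DerivedCategory.homologyFunctor (ModuleCat.{u} R) d).map
      (DerivedCategory.Q.map α)) :=
    ((MorphismProperty.epimorphisms _).arrow_mk_iso_iff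
      (Arrow.isoOfNatIso (DerivedCategory.homologyFunctorFactors (ModuleCat.{u} R) d)
        (Arrow.mk α))).2 hepi
  exact epi_comp _ _

lemma isZero_cone (T : Triangle (Dual.D R)) (hT : T ∈ distinguishedTriangles) (b : ℤ)
    (h1 : ∀ i : ℤ, b < i → IsZero ((homologyFunctor (ModuleCat.{u} R) i).obj T.obj₁))
    (h2 : ∀ i : ℤ, b < i → IsZero ((homologyFunctor (ModuleCat.{u} R) i).obj T.obj₂))
    (h3 : Epi ((homologyFunctor (ModuleCat.{u} R) b).map T.mor₁)) (i : ℤ) (hi : b - 1 < i) :
    IsZero ((homologyFunctor (ModuleCat.{u} R) i).obj T.obj₃) := by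
  have hex := HomologySequence.exact₃ T hT i (i + 1) rfl
  have hg : HomologySequence.δ T i (i + 1) = 0 := (h1 (i + 1) (by omega)).eq_of_tgt _ _
  have hf : (homologyFunctor (ModuleCat.{u} R) i).map T.mor₂ = 0 := by
    rcases eq_or_ne i b with rfl | hne
    · exact (HomologySequence.epi_homologyMap_mor₁_iff T hT i).1 h3
    · exact (h2 i (by omega)).eq_of_src _ _
  exact hex.isZero_of_both_zeros hf hg

/-- the bound -/
def bd (N : ℕ) : ℕ → ℕ → ℕ
  | 0, n => n * N
  | t + 1, n => bd N t (n * N + n) + n * N

/-- extension of scalars -/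
noncomputable abbrev ex (R B : Type u) [CommRing R] [CommRing B] [Algebra R B] :
    ModuleCat.{u} R ⥤ ModuleCat.{u} B :=
  ModuleCat.extendScalars.{u, u, u} (algebraMap R B)

section

variable {B : Type u} [CommRing B] [Algebra R B] [PreservesFiniteLimits (ex R B)]

/-- homology of the base change -/
noncomputable def hIso (K : Dual.D R) (P : DRing.Cx B)
    (e : DRing.toD P ≅ (ex R B).mapDerivedCategory.obj K) (i : ℤ) :
    P.homology i ≅ (ex R B).obj ((homologyFunctor (ModuleCat.{u} R) i).obj K) :=
  ((homologyFunctorFactors (ModuleCat.{u} B) i).app P).symm ≪≫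
    (homologyFunctor _ i).mapIso e ≪≫
      (Groth.Agent.PerfA.ExactD.mapHomology (ex R B) i).app K

/-- extension of scalars as a tensor product -/
noncomputable def exEquiv (R B : Type u) [CommRing R] [CommRing B] [Algebra R B]
    (M : ModuleCat.{u} R) : (ex R B).obj M ≃ₗ[B] (B ⊗[R] M) :=
  (Groth.Agent.Ega1.TildePullback.extendScalarsIso R B M).toLinearEquiv

theorem main {N : ℕ} [Module.FaithfullyFlat R B]
    (h : IsNisCoverLen (Spec.map (CommRingCat.ofHom (algebraMap R B))) N) (t : ℕ) :
    ∀ (n : ℕ) (c b : ℤ) (K : Dual.D R) (P : DRing.Cx B), Sz P c b n →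
      (∀ i > c + t, IsZero ((homologyFunctor (ModuleCat.{u} R) i).obj K)) →
      Nonempty (DRing.toD P ≅ (ex R B).mapDerivedCategory.obj K) →
      ∃ Q : DRing.Cx R, Sz Q c (c + t) (bd N t n) ∧ Nonempty (DRing.toD Q ≅ K) := by
  induction t with
  | zero =>
    intro n c b K P hP hK ⟨e⟩
    have hPe : ∀ i > c, P.ExactAt i := fun i hi => by
      rw [HomologicalComplex.exactAt_iff_isZero_homology]
      exact ((ex R B).map_isZero (hK i (by push_cast; omega))).of_iso (hIso K P e i)
    have h1 : Gen B (P.homology c) n := hP.top c hPe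
    have h2 : Gen B (B ⊗[R] ((homologyFunctor (ModuleCat.{u} R) c).obj K)) n :=
      h1.of_equiv ((hIso K P e c).toLinearEquiv ≪≫ₗ exEquiv R B _)
    have h2' : Module.Finite B (B ⊗[R] ((homologyFunctor (ModuleCat.{u} R) c).obj K)) :=
      h2.finite
    have h2'' : Module.Finite R ((homologyFunctor (ModuleCat.{u} R) c).obj K) :=
      Module.Finite.of_finite_tensorProduct_of_faithfullyFlat B
    have h3 : Gen R ((homologyFunctor (ModuleCat.{u} R) c).obj K) (n * N) :=
      gen_of_nisCover h _ h2
    have h4 : Module.Projective B (P.homology c) := hP.bottom hPe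
    have h4' : Module.Projective B (B ⊗[R] ((homologyFunctor (ModuleCat.{u} R) c).obj K)) :=
      Module.Projective.of_equiv ((hIso K P e c).toLinearEquiv ≪≫ₗ exEquiv R B _)
    have h5 : Module.Projective R ((homologyFunctor (ModuleCat.{u} R) c).obj K) :=
      Groth.Agent.RedSub.H646.ProjDesc.projective_of_faithfullyFlat (C := B) _
    have hge : K.IsGE c := by
      rw [DerivedCategory.isGE_iff]
      intro i hi
      have h6 : IsZero (P.homology i) := by
        rw [← HomologicalComplex.exactAt_iff_isZero_homology]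
        exact ShortComplex.exact_of_isZero_X₂ _ (hP.van i (Or.inl hi))
      have h7 : Subsingleton ((ex R B).obj ((homologyFunctor (ModuleCat.{u} R) i).obj K)) :=
        ModuleCat.subsingleton_of_isZero (h6.of_iso (hIso K P e i).symm)
      have h8 : Subsingleton (B ⊗[R] ((homologyFunctor (ModuleCat.{u} R) i).obj K)) :=
        (exEquiv R B _).symm.toEquiv.subsingleton
      have h9 : Subsingleton ((homologyFunctor (ModuleCat.{u} R) i).obj K) :=
        Module.FaithfullyFlat.lTensor_reflects_triviality R B _
      exact ModuleCat.isZero_of_subsingleton _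
    have hle : K.IsLE c := by
      rw [DerivedCategory.isLE_iff]
      intro i hi
      exact hK i (by push_cast; omega)
    obtain ⟨K', hK1, hK2, ⟨e'⟩⟩ := K.exists_iso_Q_obj_of_isGE_of_isLE c c
    have hd1 : K'.d (c - 1) c = 0 :=
      (K'.isZero_of_isStrictlyGE c (c - 1) (by omega)).eq_of_src _ _
    have hd2 : K'.d c (c + 1) = 0 :=
      (K'.isZero_of_isStrictlyLE c (c + 1) (by omega)).eq_of_tgt _ _
    have hi1 : IsIso (K'.homologyπ c) := K'.isIso_homologyπ (c - 1) c (by simp) hd1
    have hi2 : IsIso (K'.iCycles c) := K'.isIso_iCycles c (c + 1) (by simp) hd2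
    let e2 : (homologyFunctor (ModuleCat.{u} R) c).obj K ≅ K'.X c :=
      (homologyFunctor (ModuleCat.{u} R) c).mapIso e' ≪≫
        (homologyFunctorFactors (ModuleCat.{u} R) c).app K' ≪≫ (asIso (K'.homologyπ c)).symm ≪≫
          asIso (K'.iCycles c)
    have hz : ∀ i, i ≠ c → Subsingleton (K'.X i) := fun i hi => by
      apply ModuleCat.subsingleton_of_isZero
      rcases lt_or_gt_of_ne hi with hi | hi
      · exact K'.isZero_of_isStrictlyGE c i hi
      · exact K'.isZero_of_isStrictlyLE c i hi
    refine ⟨K', ⟨fun i hi => ?_, fun i => ?_, fun i => ?_⟩, ⟨e'.symm⟩⟩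
    · have := hz i (by push_cast at hi; omega)
      exact ModuleCat.isZero_of_subsingleton _
    · by_cases hi : i = c
      · subst hi
        exact Module.Projective.of_equiv e2.toLinearEquiv
      · have := hz i hi
        infer_instance
    · by_cases hi : i = c
      · subst hi
        exact h3.of_equiv e2.toLinearEquiv
      · have := hz i hi
        exact Gen.of_subsingleton
  | succ t ih =>
    intro n c b K P hP hK ⟨e⟩
    obtain ⟨d, hd⟩ : ∃ d : ℤ, d = c + (t + 1 : ℕ) := ⟨_, rfl⟩
    rw [← hd] at hK
    have hPe : ∀ i > d, P.ExactAt i := fun i hi => by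
      rw [HomologicalComplex.exactAt_iff_isZero_homology]
      exact ((ex R B).map_isZero (hK i hi)).of_iso (hIso K P e i)
    have h1 : Gen B (P.homology d) n := hP.top d hPe
    have h2 : Gen B (B ⊗[R] ((homologyFunctor (ModuleCat.{u} R) d).obj K)) n :=
      h1.of_equiv ((hIso K P e d).toLinearEquiv ≪≫ₗ exEquiv R B _)
    have h2' : Module.Finite B (B ⊗[R] ((homologyFunctor (ModuleCat.{u} R) d).obj K)) :=
      h2.finite
    have h2'' : Module.Finite R ((homologyFunctor (ModuleCat.{u} R) d).obj K) :=
      Module.Finite.of_finite_tensorProduct_of_faithfullyFlat B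
    have h3 : Gen R ((homologyFunctor (ModuleCat.{u} R) d).obj K) (n * N) :=
      gen_of_nisCover h _ h2
    obtain ⟨α, hα⟩ := exists_top_cover K d (n * N) h3
    let S : DRing.Cx R := (HomologicalComplex.single (ModuleCat.{u} R) (ComplexShape.up ℤ) d).obj
      (ModuleCat.of R (Fin (n * N) → R))
    have hS : Sz S d d (n * N) := sz_single d _
    obtain ⟨C, β, γ, hT⟩ := distinguished_cocone_triangle α
    have hS0 : ∀ i : ℤ, d < i → IsZero ((homologyFunctor (ModuleCat.{u} R) i).obj
        (DRing.toD S)) := by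
      intro i hi
      have hE : S.IsStrictlyLE d :=
        (CochainComplex.isStrictlyLE_iff _ _).2 fun i hi => hS.van i (Or.inr hi)
      exact (DRing.toD S).isZero_of_isLE d i hi
    have hC := isZero_cone _ hT d hS0 hK hα
    have hT' := (ex R B).mapDerivedCategory.map_distinguished _ hT
    have hS' := hS.bc (algebraMap R B)
    have := hS'.isKProjective
    obtain ⟨u, ⟨e'⟩⟩ := SizeTop.exists_cone ((bcCx (algebraMap R B)).obj S) P _ hT'
      ((ex R B).mapDerivedCategoryFactors.app S).symm e
    have hc : Sz (CochainComplex.mappingCone u) c (max (d - 1) b) (n * N + n) :=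
      hS'.cone hP (by rw [hd]; push_cast; omega) le_rfl (by omega) (by omega) u
    obtain ⟨Q, hQ, ⟨eQ⟩⟩ := ih (n * N + n) c (max (d - 1) b) C (CochainComplex.mappingCone u) hc
      (fun i hi => hC i (by rw [hd]; push_cast; omega)) ⟨e'⟩
    have hT2 := inv_rot_of_distTriang _ hT
    have := hQ.shift.isKProjective
    obtain ⟨v, ⟨e3⟩⟩ := SizeTop.exists_cone (Q⟦(-1 : ℤ)⟧) S _ hT2
      (((DerivedCategory.Q.commShiftIso (-1 : ℤ)).app Q) ≪≫ (shiftFunctor _ (-1 : ℤ)).mapIso eQ)
      (Iso.refl _)
    refine ⟨CochainComplex.mappingCone v, ?_, ⟨e3⟩⟩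
    exact hQ.shift.cone hS (by omega) (by rw [hd]; push_cast; omega) (by push_cast; omega)
      (by rw [hd]) v

end

end K574.SizeMain
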