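import Groth.Agent.PerfB.KProjTop

/-!
# Top cohomology of K-projective complexes, retract form; cones in the derived category
-/

set_option autoImplicit false

open CategoryTheory CategoryTheory.Limits HomologicalComplex CochainComplex Pretriangulated

namespace K574.SizeTop

open Groth.Agent.PerfB.KProjTop

universe w v u

variable {C : Type u} [Category.{v} C] [Abelian C]

/-- If `T` is K-projective and exact in degrees `> n`, the projection `Z^n ⟶ H^n` extends to
`T.X n`. -/
lemma exists_extension (T : CochainComplex C ℤ) [T.IsKProjective] (n : ℤ)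
    (hT : ∀ i > n, T.ExactAt i) :
    ∃ p : T.X n ⟶ T.homology n, T.iCycles n ≫ p = T.homologyπ n := by
  let := HasDerivedCategory.standard C
  have : T.IsLE n := by rw [isLE_iff]; exact fun i hi => hT i hi
  let T' := T.truncLE n
  let ι : T' ⟶ T := T.ιTruncLE n
  have hι : IsIso (DerivedCategory.Q.map ι) := by
    rw [DerivedCategory.isIso_Q_map_iff_quasiIso]
    infer_instance
  obtain ⟨s, hs⟩ := exists_map_eq (inv (DerivedCategory.Q.map ι))
  have hs' : IsIso (DerivedCategory.Q.map s) := by rw [hs]; infer_instance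
  rw [DerivedCategory.isIso_Q_map_iff_quasiIso] at hs'
  have hd : T'.d n (n + 1) = 0 := (T'.isZero_of_isStrictlyLE n (n + 1)).eq_of_tgt _ _
  have hi : IsIso (T'.iCycles n) := T'.isIso_iCycles n (n + 1) (by simp) hd
  have h : T.iCycles n ≫ s.f n ≫ inv (T'.iCycles n) ≫ T'.homologyπ n =
      T.homologyπ n ≫ homologyMap s n := by
    rw [homologyπ_naturality, ← cyclesMap_i_assoc]
    simp
  refine ⟨(s.f n ≫ inv (T'.iCycles n) ≫ T'.homologyπ n) ≫ inv (homologyMap s n), ?_⟩
  rw [← Category.assoc, h, Category.assoc, IsIso.hom_inv_id, Category.comp_id]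

/-- Two step version: the top cohomology is a retract of `T.X n` if there is nothing below. -/
lemma exists_retract (T : CochainComplex C ℤ) [T.IsKProjective] (n : ℤ)
    (hT : ∀ i > n, T.ExactAt i) (h0 : IsZero (T.X (n - 1))) :
    ∃ (s : T.homology n ⟶ T.X n) (p : T.X n ⟶ T.homology n), s ≫ p = 𝟙 _ := by
  obtain ⟨p, hp⟩ := exists_extension T n hT
  have hd : T.d (n - 1) n = 0 := h0.eq_of_src _ _
  have hi : IsIso (T.homologyπ n) := T.isIso_homologyπ (n - 1) n (by simp) hd
  exact ⟨inv (T.homologyπ n) ≫ T.iCycles n, p, by rw [Category.assoc, hp, IsIso.inv_hom_id]⟩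

variable [HasDerivedCategory.{w} C]

/-- The third object of a distinguished triangle is a mapping cone. -/
lemma exists_cone (P₁ P₂ : CochainComplex C ℤ) [P₁.IsKProjective]
    (T : Triangle (DerivedCategory C)) (hT : T ∈ distTriang _)
    (e₁ : DerivedCategory.Q.obj P₁ ≅ T.obj₁) (e₂ : DerivedCategory.Q.obj P₂ ≅ T.obj₂) :
    ∃ u : P₁ ⟶ P₂, Nonempty (DerivedCategory.Q.obj (mappingCone u) ≅ T.obj₃) := by
  obtain ⟨u, hu⟩ := exists_map_eq (e₁.hom ≫ T.mor₁ ≫ e₂.inv)
  have T₁ := DerivedCategory.mappingCone_triangle_distinguished u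
  exact ⟨u, ⟨Pretriangulated.Triangle.π₃.mapIso
    (Pretriangulated.isoTriangleOfIso₁₂ _ _ T₁ hT e₁ e₂ (by
      change DerivedCategory.Q.map u ≫ e₂.hom = e₁.hom ≫ T.mor₁
      rw [hu]; simp))⟩⟩

end K574.SizeTop
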